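import Mathlib.RingTheory.GradedAlgebra.Radical
import Mathlib.RingTheory.Ideal.MinimalPrime.Noetherian
import Mathlib.RingTheory.KrullDimension.Polynomial
import Mathlib.RingTheory.FiniteType
import Groth.Agent.DimLib.Algebra

/-!
# Homogeneous systems of parameters of graded algebras over a field, and Noether normalisation
-/

set_option autoImplicit false
universe u

open DirectSum

namespace Groth.Agent.SegreDim

/-- a quotient by an ideal meeting every minimal prime properly drops the dimension -/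
theorem ringKrullDim_quotient_add_one_le {R : Type u} [CommRing R] {I J : Ideal R} (hIJ : I ≤ J)
    (h : ∀ P ∈ I.minimalPrimes, ¬ J ≤ P) : ringKrullDim (R ⧸ J) + 1 ≤ ringKrullDim (R ⧸ I) := by
  rcases subsingleton_or_nontrivial (R ⧸ J) with hs | hn
  · rw [ringKrullDim_eq_bot_of_subsingleton]; simp
  have key : ∀ l : LTSeries (PrimeSpectrum (R ⧸ J)),
      ((l.length + 1 : ℕ) : WithBot ℕ∞) ≤ ringKrullDim (R ⧸ I) := by
    intro l
    have hfact : ∀ a ∈ I, (Ideal.Quotient.mk J) a = 0 := fun a ha =>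
      Ideal.Quotient.eq_zero_iff_mem.mpr (hIJ ha)
    let g := Ideal.Quotient.lift I (Ideal.Quotient.mk J) hfact
    have hg : Function.Surjective g :=
      Ideal.Quotient.lift_surjective_of_surjective _ _ Ideal.Quotient.mk_surjective
    have hsm : StrictMono (PrimeSpectrum.comap g) :=
      Monotone.strictMono_of_injective (fun x y hxy => Ideal.comap_mono hxy)
        (PrimeSpectrum.comap_injective_of_surjective g hg)
    let l' := l.map _ hsm
    obtain ⟨q, hq, hle⟩ := Ideal.exists_minimalPrimes_le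
      (I := (⊥ : Ideal (R ⧸ I))) (J := l'.head.asIdeal) bot_le
    haveI := hq.1.1
    have hne : (⟨q, hq.1.1⟩ : PrimeSpectrum (R ⧸ I)) ≠ l'.head := by
      intro he
      have hq' : q.comap (Ideal.Quotient.mk I) ∈ I.minimalPrimes := by
        refine ⟨⟨inferInstance, fun a ha => ?_⟩, fun P hP hPle => ?_⟩
        · rw [Ideal.mem_comap, Ideal.Quotient.eq_zero_iff_mem.mpr ha]; exact zero_mem _
        · have hPI : (P.map (Ideal.Quotient.mk I)).IsPrime :=
            haveI := hP.1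
            Ideal.map_isPrime_of_surjective Ideal.Quotient.mk_surjective (by rw [Ideal.mk_ker]; exact hP.2)
          have := hq.2 ⟨hPI, bot_le⟩ ((Ideal.map_mono hPle).trans Ideal.map_comap_le)
          refine (Ideal.comap_mono this).trans ?_
          rw [Ideal.comap_map_of_surjective _ Ideal.Quotient.mk_surjective, ← RingHom.ker_eq_comap_bot,
            Ideal.mk_ker, sup_eq_left.mpr hP.2]
      refine h _ hq' fun a ha => ?_
      have he' : q = l'.head.asIdeal := congrArg PrimeSpectrum.asIdeal he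
      rw [Ideal.mem_comap, he']
      show g (Ideal.Quotient.mk I a) ∈ l.head.asIdeal
      rw [Ideal.Quotient.lift_mk, Ideal.Quotient.eq_zero_iff_mem.mpr ha]
      exact zero_mem _
    refine le_trans (le_of_eq ?_) (Order.LTSeries.length_le_krullDim (l'.cons ⟨q, hq.1.1⟩ (lt_of_le_of_ne (show (⟨q, hq.1.1⟩ : PrimeSpectrum (R ⧸ I)) ≤ l'.head from hle) hne)))
    simp [l']
  obtain ⟨l₀⟩ : Nonempty (LTSeries (PrimeSpectrum (R ⧸ J))) := inferInstance
  revert key
  generalize ringKrullDim (R ⧸ I) = d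
  intro key
  induction d with
  | bot => simpa using key l₀
  | coe d =>
    induction d with
    | top => exact le_trans le_top (le_of_eq rfl)
    | coe e =>
      have he : ∀ l : LTSeries (PrimeSpectrum (R ⧸ J)), l.length + 1 ≤ e := fun l => by
        have h' : ((l.length + 1 : ℕ) : ℕ∞) ≤ (e : ℕ∞) := WithBot.coe_le_coe.mp (key l)
        exact_mod_cast h'
      obtain ⟨e', rfl⟩ : ∃ e', e = e' + 1 := ⟨e - 1, by have := he l₀; omega⟩
      calc ringKrullDim (R ⧸ J) + 1 ≤ ((e' : ℕ) : WithBot ℕ∞) + 1 := by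
            gcongr
            exact iSup_le fun l => by exact_mod_cast Nat.le_of_succ_le_succ (he l)
        _ = _ := rfl

variable {k : Type u} [Field k] {R : Type u} [CommRing R] [Algebra k R] (𝒜 : ℤ → Submodule k R)
  [GradedAlgebra 𝒜]

/-- the irrelevant ideal -/
def irr : Ideal R := Ideal.span (⋃ n ∈ Set.Ioi (0 : ℤ), (𝒜 n : Set R))

theorem mem_irr_of_mem {n : ℤ} (hn : 0 < n) {a : R} (ha : a ∈ 𝒜 n) : a ∈ irr 𝒜 :=
  Ideal.subset_span (Set.mem_biUnion (Set.mem_Ioi.mpr hn) ha)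

theorem irr_isHomogeneous : (irr 𝒜).IsHomogeneous 𝒜 :=
  Ideal.homogeneous_span 𝒜 _ fun a ha => by
    simp only [Set.mem_iUnion] at ha
    obtain ⟨n, -, ha⟩ := ha
    exact ⟨n, ha⟩

variable (hpos : ∀ n : ℤ, n < 0 → 𝒜 n = ⊥) (h0 : 𝒜 0 = Submodule.span k {(1 : R)})

include hpos in
theorem eq_zero_of_neg {n : ℤ} (hn : n < 0) {a : R} (ha : a ∈ 𝒜 n) : a = 0 := by
  rwa [hpos n hn, Submodule.mem_bot] at ha

include h0 in
theorem exists_scalar {a : R} (ha : a ∈ 𝒜 0) : ∃ c : k, a = algebraMap k R c := by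
  rw [h0, Submodule.mem_span_singleton] at ha
  obtain ⟨c, rfl⟩ := ha
  exact ⟨c, (Algebra.algebraMap_eq_smul_one c).symm⟩

include hpos in
theorem proj_zero_of_mem_irr {x : R} (hx : x ∈ irr 𝒜) : (decompose 𝒜 x 0 : R) = 0 := by
  classical
  induction hx using Submodule.span_induction with
  | mem a ha =>
    simp only [Set.mem_iUnion, Set.mem_Ioi, SetLike.mem_coe] at ha
    obtain ⟨n, hn, ha⟩ := ha
    exact DirectSum.decompose_of_mem_ne 𝒜 ha hn.ne'
  | zero => simp
  | add a b _ _ ha hb => simp [decompose_add, ha, hb]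
  | smul r a ha' ih =>
    rw [smul_eq_mul]
    conv_lhs => rw [← DirectSum.sum_support_decompose 𝒜 r, Finset.sum_mul]
    rw [decompose_sum, DFinsupp.finsetSum_apply, AddSubmonoidClass.coe_finsetSum]
    refine Finset.sum_eq_zero fun i _ => ?_
    rcases lt_trichotomy i 0 with hi | hi | hi
    · simp [eq_zero_of_neg 𝒜 hpos hi (decompose 𝒜 r i).2]
    · subst hi
      have := DirectSum.coe_decompose_mul_add_of_left_mem 𝒜 (j := (0 : ℤ)) (b := a) (decompose 𝒜 r 0).2
      rw [add_zero] at this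
      rw [this, ih, mul_zero]
    · have hz : ∀ j : ℤ, i + j = 0 → (decompose 𝒜 a j : R) = 0 := fun j hj =>
        eq_zero_of_neg 𝒜 hpos (by omega) (decompose 𝒜 a j).2
      have := DirectSum.coe_decompose_mul_add_of_left_mem 𝒜 (j := -i) (b := a) (decompose 𝒜 r i).2
      rw [add_neg_cancel] at this
      rw [this, hz _ (add_neg_cancel i), mul_zero]

include hpos h0 in
theorem exists_eq_add (x : R) : ∃ (c : k) (μ : R), μ ∈ irr 𝒜 ∧ x = algebraMap k R c + μ := by
  classical
  obtain ⟨c, hc⟩ := exists_scalar 𝒜 h0 (decompose 𝒜 x 0).2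
  refine ⟨c, x - (decompose 𝒜 x 0 : R), ?_, by rw [← hc]; ring⟩
  have e : x - (decompose 𝒜 x 0 : R) = ∑ i ∈ (decompose 𝒜 x).support.erase 0, (decompose 𝒜 x i : R) := by
    by_cases hmem : (0 : ℤ) ∈ (decompose 𝒜 x).support
    · conv_lhs => arg 1; rw [← DirectSum.sum_support_decompose 𝒜 x, ← Finset.add_sum_erase _ _ hmem]
      ring
    · rw [Finset.erase_eq_of_notMem hmem, DirectSum.sum_support_decompose]
      rw [DFinsupp.notMem_support_iff] at hmem
      simp [hmem]
  rw [e]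
  refine Ideal.sum_mem _ fun i hi => ?_
  rcases lt_or_gt_of_ne (Finset.ne_of_mem_erase hi) with h | h
  · rw [eq_zero_of_neg 𝒜 hpos h (decompose 𝒜 x i).2]; exact zero_mem _
  · exact mem_irr_of_mem 𝒜 h (decompose 𝒜 x i).2

include hpos in
theorem irr_ne_top [Nontrivial R] : irr 𝒜 ≠ ⊤ := fun h => by
  have := proj_zero_of_mem_irr 𝒜 hpos ((Ideal.eq_top_iff_one _).mp h)
  rw [DirectSum.decompose_of_mem_same 𝒜 SetLike.GradedOne.one_mem] at this
  exact one_ne_zero this

include hpos h0 in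
theorem irr_isMaximal [Nontrivial R] : (irr 𝒜).IsMaximal := by
  refine Ideal.isMaximal_iff.mpr ⟨(Ideal.ne_top_iff_one _).mp (irr_ne_top 𝒜 hpos), fun J x hJ hx hxJ => ?_⟩
  obtain ⟨c, μ, hμ, rfl⟩ := exists_eq_add 𝒜 hpos h0 x
  have hc : c ≠ 0 := fun h => hx (by simpa [h] using hμ)
  have h1 : algebraMap k R c ∈ J := by simpa using J.sub_mem hxJ (hJ hμ)
  have := J.mul_mem_left (algebraMap k R c⁻¹) h1
  rwa [← map_mul, inv_mul_cancel₀ hc, map_one] at this

include hpos h0 in
theorem le_irr_of_isHomogeneous {J : Ideal R} (hJ : J.IsHomogeneous 𝒜) (hne : J ≠ ⊤) : J ≤ irr 𝒜 := by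
  classical
  intro x hx
  rw [← DirectSum.sum_support_decompose 𝒜 x]
  refine Ideal.sum_mem _ fun i _ => ?_
  rcases lt_trichotomy i 0 with h | h | h
  · rw [eq_zero_of_neg 𝒜 hpos h (decompose 𝒜 x i).2]; exact zero_mem _
  · subst h
    obtain ⟨c, hc⟩ := exists_scalar 𝒜 h0 (decompose 𝒜 x 0).2
    by_cases hc0 : c = 0
    · rw [hc, hc0, map_zero]; exact zero_mem _
    · exfalso; apply hne
      refine Ideal.eq_top_of_isUnit_mem _ (hJ 0 hx) ?_
      rw [hc]; exact (IsUnit.mk0 c hc0).map _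
  · exact mem_irr_of_mem 𝒜 h (decompose 𝒜 x i).2

theorem isHomogeneous_minimalPrime {I P : Ideal R} (hI : I.IsHomogeneous 𝒜) (hP : P ∈ I.minimalPrimes) :
    P.IsHomogeneous 𝒜 := by
  have h1 : (P.homogeneousCore 𝒜).toIdeal.IsPrime := hP.1.1.homogeneousCore
  have h2 : I ≤ (P.homogeneousCore 𝒜).toIdeal := by
    have := Ideal.homogeneousCore_mono 𝒜 hP.1.2
    rw [← hI.toIdeal_homogeneousCore_eq_self]
    exact this
  rw [le_antisymm (hP.2 ⟨h1, h2⟩ (P.toIdeal_homogeneousCore_le 𝒜)) (P.toIdeal_homogeneousCore_le 𝒜)]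
  exact (P.homogeneousCore 𝒜).isHomogeneous

theorem exists_homogeneous_notMem {P Q : Ideal R} (hQ : Q.IsHomogeneous 𝒜) (h : ¬ Q ≤ P) :
    ∃ (n : ℤ) (a : R), a ∈ 𝒜 n ∧ a ∈ Q ∧ a ∉ P := by
  classical
  obtain ⟨x, hxQ, hxP⟩ := SetLike.not_le_iff_exists.mp h
  by_contra hc
  simp only [not_exists, not_and, not_not] at hc
  apply hxP
  rw [← DirectSum.sum_support_decompose 𝒜 x]
  exact Ideal.sum_mem _ fun i _ => hc i _ (decompose 𝒜 x i).2 (hQ i hxQ)

include hpos in
theorem exists_avoid (s : Finset (Ideal R)) (hs : ∀ P ∈ s, P.IsPrime ∧ P.IsHomogeneous 𝒜 ∧ ¬ irr 𝒜 ≤ P) :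
    ∃ (n : ℕ) (a : R), 0 < n ∧ a ∈ 𝒜 (n : ℤ) ∧ ∀ P ∈ s, a ∉ P := by
  classical
  induction s using Finset.induction_on with
  | empty => exact ⟨1, 0, one_pos, zero_mem _, by simp⟩
  | insert P s hPs ih =>
    obtain ⟨n, a, hn, ha, has⟩ := ih fun Q hQ => hs Q (Finset.mem_insert_of_mem hQ)
    by_cases haP : a ∈ P
    swap
    · exact ⟨n, a, hn, ha, Finset.forall_mem_insert _ _ _ |>.mpr ⟨haP, has⟩⟩
    obtain ⟨hP, hPh, hPm⟩ := hs P (Finset.mem_insert_self _ _)
    have hb : ∀ s' : Finset (Ideal R), (∀ Q ∈ s', Q.IsHomogeneous 𝒜 ∧ ¬ Q ≤ P) →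
        ∃ (m : ℕ) (b : R), 0 < m ∧ b ∈ 𝒜 (m : ℤ) ∧ b ∉ P ∧ ∀ Q ∈ s', b ∈ Q := by
      intro s'
      induction s' using Finset.induction_on with
      | empty =>
        intro _
        obtain ⟨i, c, hc, hcm, hcP⟩ := exists_homogeneous_notMem 𝒜 (irr_isHomogeneous 𝒜) hPm
        have hi : 0 < i := by
          rcases lt_trichotomy i 0 with h | h | h
          · exact absurd (eq_zero_of_neg 𝒜 hpos h hc) (fun h => hcP (h ▸ zero_mem _))
          · exfalso
            subst h
            have := proj_zero_of_mem_irr 𝒜 hpos hcm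
            rw [DirectSum.decompose_of_mem_same 𝒜 hc] at this
            exact hcP (this ▸ zero_mem _)
          · exact h
        exact ⟨i.toNat, c, by omega, by rwa [Int.toNat_of_nonneg hi.le], hcP, by simp⟩
      | insert Q s' _ ih' =>
        intro h
        obtain ⟨m, b, hm, hb, hbP, hbs⟩ := ih' fun Q' hQ' => h Q' (Finset.mem_insert_of_mem hQ')
        obtain ⟨hQh, hQP⟩ := h Q (Finset.mem_insert_self _ _)
        obtain ⟨i, q, hq, hqQ, hqP⟩ := exists_homogeneous_notMem 𝒜 hQh hQP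
        have hi : 0 ≤ i := by
          by_contra hlt
          exact hqP (eq_zero_of_neg 𝒜 hpos (not_le.mp hlt) hq ▸ zero_mem _)
        refine ⟨m + i.toNat, b * q, by omega, ?_, fun hbq => ?_, ?_⟩
        · rw [Nat.cast_add, Int.toNat_of_nonneg hi]; exact SetLike.mul_mem_graded hb hq
        · exact (hP.mem_or_mem hbq).elim hbP hqP
        · rw [Finset.forall_mem_insert]
          exact ⟨Ideal.mul_mem_left _ _ hqQ, fun Q' hQ' => Ideal.mul_mem_right _ _ (hbs Q' hQ')⟩
    obtain ⟨m, b, hm, hb, hbP, hbs⟩ := hb (s.filter fun Q => ¬ Q ≤ P) fun Q hQ => by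
      rw [Finset.mem_filter] at hQ
      exact ⟨(hs Q (Finset.mem_insert_of_mem hQ.1)).2.1, hQ.2⟩
    have hz : a ^ m + b ^ n ∉ P := fun h =>
      hbP (hP.mem_of_pow_mem n ((Ideal.add_mem_iff_right _ (Ideal.pow_mem_of_mem _ haP m hm)).mp h))
    refine ⟨m * n, a ^ m + b ^ n, Nat.mul_pos hm hn, Submodule.add_mem _ ?_ ?_, ?_⟩
    · have := SetLike.pow_mem_graded (A := 𝒜) m ha
      simpa [nsmul_eq_mul] using this
    · have := SetLike.pow_mem_graded (A := 𝒜) n hb
      simpa [nsmul_eq_mul, mul_comm] using this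
    · rw [Finset.forall_mem_insert]
      refine ⟨hz, fun Q hQ h => ?_⟩
      by_cases hQP : Q ≤ P
      · exact hz (hQP h)
      · have hbQ := Ideal.pow_mem_of_mem _ (hbs Q (Finset.mem_filter.mpr ⟨hQ, hQP⟩)) n hn
        exact has Q hQ ((hs Q (Finset.mem_insert_of_mem hQ)).1.mem_of_pow_mem m
          ((Ideal.add_mem_iff_left _ hbQ).mp h))

include hpos h0 in
theorem exists_params [Nontrivial R] [IsNoetherianRing R] (r : ℕ) (hr : ringKrullDim R = r) :
    ∃ (l : ℕ) (y : Fin l → R) (d : Fin l → ℕ), l ≤ r ∧ (∀ i, 0 < d i ∧ y i ∈ 𝒜 (d i : ℤ)) ∧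
      irr 𝒜 ≤ (Ideal.span (Set.range y)).radical := by
  classical
  have hspan : ∀ (l : ℕ) (y : Fin l → R) (d : Fin l → ℕ), (∀ i, 0 < d i ∧ y i ∈ 𝒜 (d i : ℤ)) →
      (Ideal.span (Set.range y)).IsHomogeneous 𝒜 ∧ Ideal.span (Set.range y) ≤ irr 𝒜 := by
    intro l y d h
    refine ⟨Ideal.homogeneous_span 𝒜 _ ?_, Ideal.span_le.mpr ?_⟩
    · rintro _ ⟨i, rfl⟩; exact ⟨_, (h i).2⟩
    · rintro _ ⟨i, rfl⟩; exact mem_irr_of_mem 𝒜 (by exact_mod_cast (h i).1) (h i).2
  have key : ∀ i : ℕ, ∃ (l : ℕ) (y : Fin l → R) (d : Fin l → ℕ), (∀ i, 0 < d i ∧ y i ∈ 𝒜 (d i : ℤ)) ∧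
      ((l ≤ r ∧ irr 𝒜 ≤ (Ideal.span (Set.range y)).radical) ∨
        (l = i ∧ ringKrullDim (R ⧸ Ideal.span (Set.range y)) + (i : ℕ) ≤ r)) := by
    intro i
    induction i with
    | zero =>
      refine ⟨0, Fin.elim0, Fin.elim0, fun i => i.elim0, Or.inr ⟨rfl, ?_⟩⟩
      rw [Nat.cast_zero, add_zero, ← hr]
      exact ringKrullDim_quotient_le _
    | succ i ih =>
      obtain ⟨l, y, d, hy, h | ⟨rfl, h⟩⟩ := ih
      · exact ⟨l, y, d, hy, Or.inl h⟩
      obtain ⟨hh, hle⟩ := hspan l y d hy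
      set I := Ideal.span (Set.range y) with hI
      have hIne : I ≠ ⊤ := fun h => irr_ne_top 𝒜 hpos (top_le_iff.mp (h ▸ hle))
      haveI : Nontrivial (R ⧸ I) := Ideal.Quotient.nontrivial_iff.mpr hIne
      by_cases hrad : irr 𝒜 ≤ I.radical
      · refine ⟨l, y, d, hy, Or.inl ⟨?_, hrad⟩⟩
        have h1 : ((0 : ℕ) : WithBot ℕ∞) + (l : ℕ) ≤ r :=
          le_trans (by gcongr; exact ringKrullDim_nonneg_of_nontrivial) h
        rw [Nat.cast_zero, zero_add] at h1
        exact_mod_cast h1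
      · obtain ⟨n, a, hn, ha, hav⟩ := exists_avoid 𝒜 hpos (I.finite_minimalPrimes_of_isNoetherianRing R).toFinset
          fun P hP => by
            rw [Set.Finite.mem_toFinset] at hP
            refine ⟨hP.1.1, isHomogeneous_minimalPrime 𝒜 hh hP, fun hle' => hrad ?_⟩
            rw [← Ideal.sInf_minimalPrimes, le_sInf_iff]
            intro P' hP'
            have h1 := le_irr_of_isHomogeneous 𝒜 hpos h0 (isHomogeneous_minimalPrime 𝒜 hh hP') hP'.1.1.ne_top
            have hPP : P' ≤ P := h1.trans hle'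
            exact hle'.trans (hP.2 hP'.1 hPP)
        refine ⟨l + 1, Fin.cons a y, Fin.cons n d, ?_, Or.inr ⟨rfl, le_trans ?_ h⟩⟩
        · refine Fin.cases ?_ fun i => ?_
          · simpa using ⟨hn, ha⟩
          · simpa using hy i
        · rw [Nat.cast_succ, add_comm ((l : ℕ) : WithBot ℕ∞) 1, ← add_assoc]
          gcongr
          refine ringKrullDim_quotient_add_one_le (Ideal.span_mono ?_) fun P hP hJ => ?_
          · rintro _ ⟨i, rfl⟩; exact ⟨i.succ, by simp⟩
          · exact hav P ((Set.Finite.mem_toFinset _).mpr hP) (hJ (Ideal.subset_span ⟨0, by simp⟩))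
  obtain ⟨l, y, d, hy, h | ⟨rfl, h⟩⟩ := key (r + 1)
  · exact ⟨l, y, d, h.1, hy, h.2⟩
  · exfalso
    have hIne : Ideal.span (Set.range y) ≠ ⊤ := fun ht =>
      irr_ne_top 𝒜 hpos (top_le_iff.mp (ht ▸ (hspan _ y d hy).2))
    haveI : Nontrivial (R ⧸ Ideal.span (Set.range y)) := Ideal.Quotient.nontrivial_iff.mpr hIne
    have h1 : ((0 : ℕ) : WithBot ℕ∞) + ((r + 1 : ℕ) : ℕ) ≤ r :=
      le_trans (by gcongr; exact ringKrullDim_nonneg_of_nontrivial) h
    have : 0 + (r + 1) ≤ r := by exact_mod_cast h1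
    omega

include hpos h0 in
/-- elements with radical the irrelevant ideal give a finite map from a polynomial ring -/
theorem finite_of_radical [Algebra.FiniteType k R] {l : ℕ} (y : Fin l → R) (d : Fin l → ℕ)
    (hy : ∀ i, 0 < d i ∧ y i ∈ 𝒜 (d i : ℤ)) (hrad : irr 𝒜 ≤ (Ideal.span (Set.range y)).radical) :
    (MvPolynomial.aeval y : MvPolynomial (Fin l) k →ₐ[k] R).Finite := by
  classical
  haveI : IsNoetherianRing R := Algebra.FiniteType.isNoetherianRing k R
  set I := Ideal.span (Set.range y) with hI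
  haveI : Algebra.IsIntegral k (R ⧸ I) := by
    constructor
    intro x
    obtain ⟨x, rfl⟩ := Ideal.Quotient.mk_surjective x
    obtain ⟨c, μ, hμ, rfl⟩ := exists_eq_add 𝒜 hpos h0 x
    obtain ⟨N, hN⟩ := hrad hμ
    refine ⟨(Polynomial.X - Polynomial.C c) ^ (N + 1), (Polynomial.monic_X_sub_C c).pow _, ?_⟩
    rw [← Polynomial.aeval_def, map_pow, map_sub, Polynomial.aeval_X, Polynomial.aeval_C,
      ← Ideal.Quotient.mk_algebraMap, ← map_sub, add_sub_cancel_left, ← map_pow,
      Ideal.Quotient.eq_zero_iff_mem, pow_succ]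
    exact Ideal.mul_mem_right _ _ hN
  haveI : Module.Finite k (R ⧸ I) := Algebra.IsIntegral.finite
  let H : Set R := {x | ∃ n, x ∈ 𝒜 n}
  have hHtop : Submodule.span k (Ideal.Quotient.mk I '' H) = ⊤ := by
    rw [eq_top_iff]
    intro x _
    obtain ⟨x, rfl⟩ := Ideal.Quotient.mk_surjective x
    rw [← DirectSum.sum_support_decompose 𝒜 x, map_sum]
    exact Submodule.sum_mem _ fun i _ => Submodule.subset_span ⟨_, ⟨i, (decompose 𝒜 x i).2⟩, rfl⟩
  obtain ⟨t, ht, htspan⟩ := (Submodule.fg_span_iff_fg_span_finset_subset (Ideal.Quotient.mk I '' H)).mp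
    (hHtop ▸ Module.Finite.fg_top)
  obtain ⟨G, hGH, hGt⟩ := Finset.subset_set_image_iff.mp ht
  let φ : MvPolynomial (Fin l) k →ₐ[k] R := MvPolynomial.aeval y
  letI := φ.toRingHom.toAlgebra
  haveI : IsScalarTower k (MvPolynomial (Fin l) k) R := IsScalarTower.of_algHom φ
  show Module.Finite (MvPolynomial (Fin l) k) R
  refine ⟨⟨G, ?_⟩⟩
  rw [eq_top_iff]
  intro x _
  rw [← DirectSum.sum_support_decompose 𝒜 x]
  refine Submodule.sum_mem _ fun n _ => ?_
  suffices ∀ (N : ℕ) (n : ℤ), n < N → ∀ a ∈ 𝒜 n, a ∈ Submodule.span (MvPolynomial (Fin l) k) (G : Set R) from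
    this (n.toNat + 1) n (by omega) _ (decompose 𝒜 x n).2
  intro N
  induction N with
  | zero =>
    intro n hn a ha
    rw [eq_zero_of_neg 𝒜 hpos (by exact_mod_cast hn) ha]; exact zero_mem _
  | succ N ihN =>
    intro n hn a ha
    have hmem : Ideal.Quotient.mk I a ∈ Submodule.span k (Ideal.Quotient.mk I '' (G : Set R)) := by
      have e : Submodule.span k (t : Set (R ⧸ I)) = ⊤ := by rw [← htspan, hHtop]
      rw [← Finset.coe_image, hGt, e]; trivial
    obtain ⟨c, hc⟩ := Submodule.mem_span_image_finset_iff_exists_fun' k |>.mp hmem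
    have hsub : a - ∑ g : G, c g • (g : R) ∈ I := by
      rw [← Ideal.Quotient.eq_zero_iff_mem, map_sub, map_sum, sub_eq_zero, ← hc, ← Finset.sum_coe_sort]
      exact Finset.sum_congr rfl fun g _ => (map_smul (Ideal.Quotient.mkₐ k I) _ _).symm
    obtain ⟨b, hb⟩ := Ideal.mem_span_range_iff_exists_fun.mp hsub
    have hproj := congrArg (fun z => GradedAlgebra.proj 𝒜 n z) hb
    simp only [map_sum, map_sub, map_smul, GradedAlgebra.proj_apply,
      DirectSum.decompose_of_mem_same 𝒜 ha] at hproj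
    rw [eq_comm, sub_eq_iff_eq_add] at hproj
    rw [hproj]
    refine Submodule.add_mem _ (Submodule.sum_mem _ fun i _ => ?_) (Submodule.sum_mem _ fun g _ => ?_)
    · have e := DirectSum.coe_decompose_mul_add_of_right_mem 𝒜 (i := n - (d i : ℤ)) (a := b i) (hy i).2
      rw [sub_add_cancel] at e
      rw [e, mul_comm, show y i = algebraMap (MvPolynomial (Fin l) k) R (MvPolynomial.X i) from
        (MvPolynomial.aeval_X y i).symm, ← Algebra.smul_def]
      refine Submodule.smul_mem _ _ (ihN _ ?_ _ (decompose 𝒜 (b i) _).2)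
      have := (hy i).1
      omega
    · obtain ⟨m, hm⟩ := hGH g.2
      rw [← IsScalarTower.algebraMap_smul (MvPolynomial (Fin l) k) (c g)]
      refine Submodule.smul_mem _ _ ?_
      rcases eq_or_ne m n with rfl | hne
      · rw [DirectSum.decompose_of_mem_same 𝒜 hm]; exact Submodule.subset_span g.2
      · rw [DirectSum.decompose_of_mem_ne 𝒜 hm hne]; exact zero_mem _

include hpos h0 in
/-- **Homogeneous Noether normalisation**, with parameters of one degree. -/
theorem exists_normalization [Algebra.FiniteType k R] (r : ℕ) (hr : ringKrullDim R = r) :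
    ∃ (D : ℕ) (y : Fin r → R), 0 < D ∧ (∀ i, y i ∈ 𝒜 (D : ℤ)) ∧
      Function.Injective (MvPolynomial.aeval y : MvPolynomial (Fin r) k →ₐ[k] R) ∧
      (MvPolynomial.aeval y : MvPolynomial (Fin r) k →ₐ[k] R).Finite := by
  classical
  haveI : IsNoetherianRing R := Algebra.FiniteType.isNoetherianRing k R
  haveI : Nontrivial R := by
    by_contra h
    haveI := not_nontrivial_iff_subsingleton.mp h
    rw [ringKrullDim_eq_bot_of_subsingleton] at hr
    exact absurd hr (by simp)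
  obtain ⟨l, y₀, d, hl, hy₀, hrad⟩ := exists_params 𝒜 hpos h0 r hr
  let D := ∏ i, d i
  have hD : 0 < D := Finset.prod_pos fun i _ => (hy₀ i).1
  let y : Fin l → R := fun i => y₀ i ^ (D / d i)
  have hdvd : ∀ i, d i ∣ D := fun i => Finset.dvd_prod_of_mem d (Finset.mem_univ i)
  have hyD : ∀ i, y i ∈ 𝒜 (D : ℤ) := fun i => by
    have := SetLike.pow_mem_graded (A := 𝒜) (D / d i) (hy₀ i).2
    rwa [nsmul_eq_mul, ← Nat.cast_mul, Nat.div_mul_cancel (hdvd i)] at this
  have hrad' : irr 𝒜 ≤ (Ideal.span (Set.range y)).radical := by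
    refine hrad.trans ((Ideal.radical_mono (Ideal.span_le.mpr ?_)).trans (Ideal.radical_idem _).le)
    rintro _ ⟨i, rfl⟩
    exact ⟨D / d i, Ideal.subset_span ⟨i, rfl⟩⟩
  have hfin := finite_of_radical 𝒜 hpos h0 y (fun _ => D) (fun i => ⟨hD, hyD i⟩) hrad'
  let φ : MvPolynomial (Fin l) k →ₐ[k] R := MvPolynomial.aeval y
  have hfin' : φ.toRingHom.Finite := hfin
  haveI hfin'' : Algebra.IsIntegral φ.range R := by
    constructor
    intro x
    obtain ⟨p, hp, hpx⟩ := hfin'.to_isIntegral x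
    refine ⟨p.map φ.rangeRestrict.toRingHom, hp.map _, ?_⟩
    rw [Polynomial.eval₂_map]; exact hpx
  have hdimB : ringKrullDim φ.range = r := by
    rw [← hr]; exact DimLib.ringKrullDim_eq_of_isIntegral Subtype.val_injective
  have hMv : ringKrullDim (MvPolynomial (Fin l) k) = (l : WithBot ℕ∞) := by
    rw [MvPolynomial.ringKrullDim_of_isNoetherianRing, ringKrullDim_eq_zero_of_field]; simp
  have hle := ringKrullDim_le_of_surjective φ.rangeRestrict.toRingHom φ.rangeRestrict_surjective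
  rw [hdimB, hMv] at hle
  have hlr : l = r := le_antisymm hl (by exact_mod_cast hle)
  subst hlr
  refine ⟨D, y, hD, hyD, ?_, hfin⟩
  rw [injective_iff_map_eq_zero]
  intro c hc
  by_contra hne
  have h1 := ringKrullDim_quotient_succ_le_of_nonZeroDivisor (mem_nonZeroDivisors_of_ne_zero hne)
  have h2 := ringKrullDim_le_of_surjective
    (Ideal.Quotient.lift (Ideal.span {c}) φ.rangeRestrict.toRingHom fun a ha => by
      obtain ⟨b, rfl⟩ := Ideal.mem_span_singleton'.mp ha
      refine Subtype.ext ?_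
      show φ (b * c) = 0
      rw [map_mul, show φ c = 0 from hc, mul_zero])
    (Ideal.Quotient.lift_surjective_of_surjective _ _ φ.rangeRestrict_surjective)
  rw [hdimB] at h2
  rw [hMv] at h1
  have : (l : WithBot ℕ∞) + 1 ≤ l := le_trans (by gcongr) h1
  have : l + 1 ≤ l := by exact_mod_cast this
  omega

end Groth.Agent.SegreDim
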