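import Mathlib.RingTheory.Ideal.AssociatedPrime.Localization
import Groth.Agent.SegreDim.Hsop
import Groth.Agent.CAlgH3.CohenMacaulay
import Groth.Agent.CommAlg6.QuotRegular
import Groth.Agent.W4Gr15.GradedVertex

/-!
# Associated primes of graded modules; unmixedness of graded Cohen–Macaulay modules
-/

set_option autoImplicit false
universe u

open DirectSum

namespace Groth.Agent.SegreDim

section graded

variable {R : Type u} [CommRing R] {σ : Type u} [SetLike σ R] [AddSubgroupClass σ R] (𝒜 : ℤ → σ)
  [GradedRing 𝒜] {M : Type u} [AddCommGroup M] [Module R M] {τ : Type u} [SetLike τ M]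
  [AddSubgroupClass τ M] (ℳ : ℤ → τ) [DirectSum.Decomposition ℳ] [SetLike.GradedSMul 𝒜 ℳ]

open scoped Classical in
include ℳ in
/-- top components of annihilating elements kill after taking a power -/
theorem exists_pow_top_smul_eq_zero {r : R} {a : ℤ} (ha : ∀ i, a < i → (decompose 𝒜 r i : R) = 0) :
    ∀ (n : ℕ) (m : M), (decompose ℳ m).support.card ≤ n → r • m = 0 →
      ∃ N : ℕ, (decompose 𝒜 r a : R) ^ N • m = 0 := by
  classical
  intro n
  induction n with
  | zero =>
    intro m hm _
    refine ⟨0, ?_⟩
    rw [pow_zero, one_smul, ← sum_support_decompose ℳ m, Finset.card_eq_zero.mp (Nat.le_zero.mp hm),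
      Finset.sum_empty]
  | succ n ih =>
    intro m hm hrm
    by_cases hne : (decompose ℳ m).support.Nonempty
    swap
    · refine ⟨0, ?_⟩
      rw [pow_zero, one_smul, ← sum_support_decompose ℳ m, Finset.not_nonempty_iff_eq_empty.mp hne,
        Finset.sum_empty]
    let b := (decompose ℳ m).support.max' hne
    let ra : R := (decompose 𝒜 r a : R)
    have hmem : ∀ i j, (decompose 𝒜 r i : R) • (decompose ℳ m j : M) ∈ ℳ (i + j) := fun i j =>
      SetLike.GradedSMul.smul_mem (decompose 𝒜 r i).2 (decompose ℳ m j).2
    have htop : ra • (decompose ℳ m b : M) = 0 := by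
      have h := congrArg (fun z => (decompose ℳ z (a + b) : M)) hrm
      simp only [decompose_zero, DirectSum.zero_apply, ZeroMemClass.coe_zero] at h
      rw [← sum_support_decompose 𝒜 r, Finset.sum_smul, decompose_sum, DFinsupp.finsetSum_apply,
        AddSubmonoidClass.coe_finsetSum] at h
      have hzero : ∀ i ∈ (decompose 𝒜 r).support, i ≠ a →
          (decompose ℳ ((decompose 𝒜 r i : R) • m) (a + b) : M) = 0 := by
        intro i hi hia
        have hia' : i < a := by
          rcases lt_or_gt_of_ne hia with h' | h'
          · exact h'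
          · exact absurd hi (DFinsupp.notMem_support_iff.mpr (Subtype.ext (by rw [ha i h']; rfl)))
        rw [← sum_support_decompose ℳ m, Finset.smul_sum, decompose_sum, DFinsupp.finsetSum_apply,
          AddSubmonoidClass.coe_finsetSum]
        refine Finset.sum_eq_zero fun j hj => decompose_of_mem_ne ℳ (hmem i j) ?_
        have := (decompose ℳ m).support.le_max' j hj
        omega
      rw [Finset.sum_eq_single a hzero (fun hna => by
        rw [DFinsupp.notMem_support_iff] at hna
        simp [hna])] at h
      rw [← sum_support_decompose ℳ m, Finset.smul_sum, decompose_sum, DFinsupp.finsetSum_apply,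
        AddSubmonoidClass.coe_finsetSum, Finset.sum_eq_single b
          (fun j _ hjb => decompose_of_mem_ne ℳ (hmem a j) (by omega))
          (fun hb => absurd (Finset.max'_mem _ hne) hb)] at h
      rwa [decompose_of_mem_same ℳ (hmem a b)] at h
    have hsupp : (decompose ℳ (ra • m)).support ⊆
        ((decompose ℳ m).support.erase b).image fun j => a + j := by
      intro i hi
      by_contra hni
      rw [DFinsupp.mem_support_iff] at hi
      apply hi
      ext
      rw [← sum_support_decompose ℳ m, Finset.smul_sum, decompose_sum, DFinsupp.finsetSum_apply,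
        AddSubmonoidClass.coe_finsetSum, ZeroMemClass.coe_zero]
      refine Finset.sum_eq_zero fun j hj => ?_
      by_cases hjb : j = b
      · subst hjb; rw [htop]; simp
      · refine decompose_of_mem_ne ℳ (hmem a j) fun h => hni ?_
        exact Finset.mem_image.mpr ⟨j, Finset.mem_erase.mpr ⟨hjb, hj⟩, h⟩
    obtain ⟨N, hN⟩ := ih (ra • m) (le_trans (Finset.card_le_card hsupp) (le_trans Finset.card_image_le
      (by rw [Finset.card_erase_of_mem (Finset.max'_mem _ hne)]; omega)))
      (by rw [smul_comm, hrm, smul_zero])
    exact ⟨N + 1, by rw [pow_succ, mul_smul]; exact hN⟩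

open scoped Classical in
include ℳ in
/-- associated primes of graded modules are homogeneous -/
theorem isHomogeneous_of_mem_associatedPrimes [IsNoetherianRing R] {p : Ideal R}
    (hp : p ∈ associatedPrimes R M) : p.IsHomogeneous 𝒜 := by
  classical
  obtain ⟨hprime, f, hf⟩ := (isAssociatedPrime_iff_exists_injective_linearMap p M).mp hp
  let x : M := f (Ideal.Quotient.mk p 1)
  have hx : ∀ r : R, r • x = 0 ↔ r ∈ p := fun r => by
    rw [← map_smul, map_eq_zero_iff f hf, Algebra.smul_def, Ideal.Quotient.algebraMap_eq, ← map_mul,
      mul_one, Ideal.Quotient.eq_zero_iff_mem]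
  have key : ∀ (n : ℕ) (r : R), (decompose 𝒜 r).support.card ≤ n → r ∈ p →
      ∀ i, (decompose 𝒜 r i : R) ∈ p := by
    intro n
    induction n with
    | zero =>
      intro r hr _ i
      have : decompose 𝒜 r i = 0 := DFinsupp.notMem_support_iff.mp
        (by rw [Finset.card_eq_zero.mp (Nat.le_zero.mp hr)]; simp)
      simp [this]
    | succ n ih =>
      intro r hr hrp i
      by_cases hne : (decompose 𝒜 r).support.Nonempty
      swap
      · have : decompose 𝒜 r i = 0 := DFinsupp.notMem_support_iff.mp
          (by rw [Finset.not_nonempty_iff_eq_empty.mp hne]; simp)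
        simp [this]
      let a := (decompose 𝒜 r).support.max' hne
      have ha : ∀ j, a < j → (decompose 𝒜 r j : R) = 0 := fun j hj => by
        have : decompose 𝒜 r j = 0 := DFinsupp.notMem_support_iff.mp fun hmem => by
          have := (decompose 𝒜 r).support.le_max' j hmem
          omega
        simp [this]
      obtain ⟨N, hN⟩ := exists_pow_top_smul_eq_zero 𝒜 ℳ ha _ x le_rfl ((hx r).mpr hrp)
      have hap : (decompose 𝒜 r a : R) ∈ p := hprime.mem_of_pow_mem N ((hx _).mp hN)
      by_cases hia : i = a
      · exact hia ▸ hap
      let r' := r - (decompose 𝒜 r a : R)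
      have hdec : ∀ j, decompose 𝒜 r' j = if j = a then 0 else decompose 𝒜 r j := by
        intro j
        split_ifs with h
        · subst h
          ext
          simp [r', decompose_sub, decompose_coe]
        · ext
          simp [r', decompose_sub, decompose_coe, DirectSum.of_eq_of_ne _ _ _ h]
      have := ih r' (by
        have hs : (decompose 𝒜 r').support ⊆ (decompose 𝒜 r).support.erase a := by
          intro j hj
          rw [DFinsupp.mem_support_iff, hdec] at hj
          split_ifs at hj with h
          · exact absurd rfl hj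
          · exact Finset.mem_erase.mpr ⟨h, DFinsupp.mem_support_iff.mpr hj⟩
        have := Finset.card_le_card hs
        rw [Finset.card_erase_of_mem (Finset.max'_mem _ hne)] at this
        omega) (p.sub_mem hrp hap) i
      rwa [hdec, if_neg hia] at this
  exact fun i r hr => key _ r le_rfl hr i

end graded

variable {k : Type u} [Field k] {R : Type u} [CommRing R] [Algebra k R] (𝒜 : ℤ → Submodule k R)
  [GradedAlgebra 𝒜] (hpos : ∀ n : ℤ, n < 0 → 𝒜 n = ⊥) (h0 : 𝒜 0 = Submodule.span k {(1 : R)})
  {M : Type u} [AddCommGroup M] [Module R M] {τ : Type u} [SetLike τ M] [AddSubgroupClass τ M]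
  (ℳ : ℤ → τ) [DirectSum.Decomposition ℳ] [SetLike.GradedSMul 𝒜 ℳ]

include hpos h0 ℳ in
/-- graded Cohen–Macaulay modules are unmixed -/
theorem ringKrullDim_quotient_eq_supportDim_of_cm [Algebra.FiniteType k R] [Module.Finite R M]
    (hcm : ∀ (q : Ideal R) [q.IsPrime], Subsingleton (LocalizedModule q.primeCompl M) ∨
      LocCoh.IsCohenMacaulayModule (Localization.AtPrime q) (LocalizedModule q.primeCompl M))
    {p : Ideal R} (hp : p ∈ associatedPrimes R M) : ringKrullDim (R ⧸ p) = Module.supportDim R M := by
  haveI : IsNoetherianRing R := Algebra.FiniteType.isNoetherianRing k R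
  haveI : Nontrivial R := nontrivial_of_ne (0 : R) 1 fun h =>
    hp.isPrime.ne_top ((Ideal.eq_top_iff_one p).mpr (h ▸ p.zero_mem))
  let m := irr 𝒜
  haveI hm : m.IsMaximal := irr_isMaximal 𝒜 hpos h0
  have loc : ∀ q ∈ associatedPrimes R M, ringKrullDim (R ⧸ q) =
      Module.supportDim (Localization.AtPrime m) (LocalizedModule m.primeCompl M) := by
    intro q hq
    haveI := IsAssociatedPrime.isPrime hq
    have hqm : q ≤ m := le_irr_of_isHomogeneous 𝒜 hpos h0
      (isHomogeneous_of_mem_associatedPrimes 𝒜 ℳ hq) (Ideal.IsPrime.ne_top ‹_›)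
    haveI hmM : (m.map (Ideal.Quotient.mk q)).IsMaximal :=
      (Ideal.map_eq_top_or_isMaximal_of_surjective _ Ideal.Quotient.mk_surjective hm).resolve_left
        fun h => hm.ne_top (by
          have h' := congrArg (Ideal.comap (Ideal.Quotient.mk q)) h
          rwa [LocCoh.comap_map_mk hqm, Ideal.comap_top] at h')
    rw [W4Gr15.ringKrullDim_eq_height_of_minimalPrimes_le (K := k) (m.map (Ideal.Quotient.mk q))
        (fun q' hq' => by
          rw [IsDomain.minimalPrimes_eq_singleton_bot, Set.mem_singleton_iff] at hq'
          rw [hq']; exact bot_le),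
      ← IsLocalization.AtPrime.ringKrullDim_eq_height _ (Localization.AtPrime (m.map (Ideal.Quotient.mk q)))]
    obtain ⟨e⟩ := CommAlg6.localization_quotient_ringEquiv q m hqm
    rw [ringKrullDim_eq_of_ringEquiv e]
    let A := Localization.AtPrime m
    have hdisj : Disjoint (m.primeCompl : Set R) q := Set.disjoint_compl_left_iff_subset.2 hqm
    have hass : q.map (algebraMap R A) ∈ associatedPrimes A (LocalizedModule m.primeCompl M) :=
      Module.associatedPrimes.mem_associatedPrimes_of_comap_mem_associatedPrimes_of_isLocalizedModule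
        m.primeCompl (LocalizedModule.mkLinearMap m.primeCompl M) _
        (by
          show (q.map (algebraMap R A)).under R ∈ associatedPrimes R M
          rw [IsLocalization.under_map_of_isPrime_disjoint m.primeCompl A ‹_› hdisj]
          exact hq)
    rcases hcm m with hs | hM
    · obtain ⟨hqA, f, hf⟩ := (isAssociatedPrime_iff_exists_injective_linearMap _ _).mp hass
      haveI : Nontrivial (A ⧸ q.map (algebraMap R A)) := Ideal.Quotient.nontrivial_iff.mpr hqA.ne_top
      exact absurd hs (not_subsingleton_iff_nontrivial.mpr hf.nontrivial)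
    · exact CAlgH3.ringKrullDim_quotient_eq_of_mem_associatedPrimes hM hass
  refine le_antisymm ?_ ?_
  · refine CAlgH3.ringKrullDim_quotient_le_supportDim (p := ⟨p, hp.isPrime⟩) ?_
    rw [Module.support_eq_zeroLocus]
    exact hp.annihilator_le.trans' (by rw [Submodule.annihilator_top])
  · rw [loc p hp, Module.supportDim_eq_ringKrullDim_quotient_annihilator, ringKrullDim_quotient]
    refine iSup_le fun l => ?_
    obtain ⟨q, hq, hle⟩ := Ideal.exists_minimalPrimes_le (I := Module.annihilator R M)
      (J := l.head.1.asIdeal) l.head.2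
    rw [← loc q (Module.associatedPrimes.minimalPrimes_annihilator_subset_associatedPrimes R M hq),
      ringKrullDim_quotient]
    let l' : LTSeries (PrimeSpectrum.zeroLocus (q : Set R)) :=
      { length := l.length
        toFun := fun i => ⟨(l i).1, hle.trans (show l.head ≤ l i from l.head_le i)⟩
        step := fun i => l.step i }
    exact le_iSup_of_le l' le_rfl

end Groth.Agent.SegreDim
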