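import Mathlib.RingTheory.GradedAlgebra.Homogeneous.Ideal
import Mathlib.RingTheory.Ideal.Quotient.Operations

/-!
# The ℤ-grading of the quotient of a graded algebra by a homogeneous ideal
-/

set_option linter.unusedSectionVars false

namespace Groth.Agent.SegreDim

open DirectSum

universe u

variable {R A : Type u} [CommRing R] [CommRing A] [Algebra R A] (𝒜 : ℤ → Submodule R A)
  [GradedAlgebra 𝒜] (I : Ideal A)

/-- The image grading on `A ⧸ I`. -/
def quotGrading (n : ℤ) : Submodule R (A ⧸ I) := (𝒜 n).map (Ideal.Quotient.mkₐ R I).toLinearMap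

instance : SetLike.GradedMonoid (quotGrading 𝒜 I) where
  one_mem := ⟨1, SetLike.one_mem_graded 𝒜, map_one (Ideal.Quotient.mkₐ R I)⟩
  mul_mem := by
    rintro i j _ _ ⟨a, ha, rfl⟩ ⟨b, hb, rfl⟩
    exact ⟨a * b, SetLike.mul_mem_graded ha hb, map_mul (Ideal.Quotient.mkₐ R I) _ _⟩

/-- The map on one component. -/
noncomputable def quotPiece (i : ℤ) : 𝒜 i →+ ⨁ n, quotGrading 𝒜 I n :=
  ((DirectSum.lof R ℤ (fun n => quotGrading 𝒜 I n) i).comp
    (((Ideal.Quotient.mkₐ R I).toLinearMap.domRestrict (𝒜 i)).codRestrict (quotGrading 𝒜 I i)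
      fun a => ⟨a, a.2, rfl⟩)).toAddMonoidHom

lemma quotPiece_apply (i : ℤ) (a : 𝒜 i) : quotPiece 𝒜 I i a =
    DirectSum.of (fun m => quotGrading 𝒜 I m) i ⟨Ideal.Quotient.mkₐ R I a, a, a.2, rfl⟩ := rfl

lemma quotPiece_one : quotPiece 𝒜 I 0 (GradedMonoid.GOne.one (A := fun i => 𝒜 i)) = 1 := rfl

lemma quotPiece_mul {i j : ℤ} (a : 𝒜 i) (b : 𝒜 j) :
    quotPiece 𝒜 I (i + j) (GradedMonoid.GMul.mul (A := fun i => 𝒜 i) a b) = quotPiece 𝒜 I i a * quotPiece 𝒜 I j b := by
  rw [quotPiece_apply, quotPiece_apply, quotPiece_apply, DirectSum.of_mul_of]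
  congr 1

/-- The componentwise quotient map. -/
noncomputable def quotDecomposePre : A →ₐ[R] ⨁ n, quotGrading 𝒜 I n :=
  ({ DirectSum.toSemiring (quotPiece 𝒜 I) (quotPiece_one 𝒜 I) (quotPiece_mul 𝒜 I) with
      commutes' := fun r => (DirectSum.toSemiring_of _ (quotPiece_one 𝒜 I) (quotPiece_mul 𝒜 I) 0 _).trans
        (by
          rw [quotPiece_apply, DirectSum.algebraMap_apply]
          congr 1) } : (⨁ i, 𝒜 i) →ₐ[R] _).comp (DirectSum.decomposeAlgEquiv 𝒜).toAlgHom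

lemma quotDecomposePre_apply {n : ℤ} {a : A} (ha : a ∈ 𝒜 n) :
    quotDecomposePre 𝒜 I a =
      DirectSum.of (fun m => quotGrading 𝒜 I m) n ⟨Ideal.Quotient.mkₐ R I a, a, ha, rfl⟩ := by
  have h : DirectSum.decomposeAlgEquiv 𝒜 a = DirectSum.of (fun i => 𝒜 i) n ⟨a, ha⟩ :=
    decompose_of_mem 𝒜 ha
  change DirectSum.toSemiring (quotPiece 𝒜 I) (quotPiece_one 𝒜 I) (quotPiece_mul 𝒜 I)
    (DirectSum.decomposeAlgEquiv 𝒜 a) = _
  rw [h, DirectSum.toSemiring_of]
  rfl

variable {I} (hI : I.IsHomogeneous 𝒜)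

include hI in
lemma quotDecomposePre_ker {a : A} (ha : a ∈ I) : quotDecomposePre 𝒜 I a = 0 := by
  classical
  rw [← sum_support_decompose 𝒜 a, map_sum]
  refine Finset.sum_eq_zero fun n _ => ?_
  rw [quotDecomposePre_apply 𝒜 I (decompose 𝒜 a n).2]
  rw [← map_zero (DirectSum.of (fun m => quotGrading 𝒜 I m) n)]
  congr 1
  exact Subtype.ext (Ideal.Quotient.eq_zero_iff_mem.mpr (hI n ha) :)

/-- The quotient of a graded algebra by a homogeneous ideal is graded. -/
@[instance_reducible]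
noncomputable def quotGradedAlgebra : GradedAlgebra (quotGrading 𝒜 I) :=
  GradedAlgebra.ofAlgHom _
    (Ideal.Quotient.liftₐ I (quotDecomposePre 𝒜 I) fun _ ha => quotDecomposePre_ker 𝒜 hI ha)
    (by
      refine AlgHom.ext fun x => ?_
      obtain ⟨a, rfl⟩ := Ideal.Quotient.mk_surjective x
      change DirectSum.coeAlgHom _ (quotDecomposePre 𝒜 I a) = Ideal.Quotient.mkₐ R I a
      induction a using DirectSum.Decomposition.inductionOn (ℳ := 𝒜) with
      | zero => simp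
      | @homogeneous i a => rw [quotDecomposePre_apply 𝒜 I a.2, DirectSum.coeAlgHom_of]
      | add a b ha hb => rw [map_add, map_add, map_add, ha, hb])
    (by
      rintro i ⟨_, a, ha, rfl⟩
      exact quotDecomposePre_apply 𝒜 I ha)

end Groth.Agent.SegreDim
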