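import Groth.Agent.LocCoh.GorensteinCriteria
import Groth.Agent.CAlgH3.CMRing

/-!
# The Gorenstein property is invariant under ring isomorphisms
-/

set_option autoImplicit false
universe u

open IsLocalRing RingTheory.Sequence

namespace Groth.Agent.SegreDim

theorem gorensteinLocal_of_ringEquiv {R S : Type u} [CommRing R] [CommRing S] (e : R ≃+* S)
    [LocCoh.IsGorensteinLocalRing R] : LocCoh.IsGorensteinLocalRing S := by
  haveI : LocCoh.IsCohenMacaulayLocalRing R := LocCoh.isCohenMacaulayLocalRing_of_gorenstein (R := R)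
  haveI : LocCoh.IsCohenMacaulayLocalRing S := CAlgH3.isCohenMacaulayLocalRing_of_ringEquiv e
  obtain ⟨n, hn'⟩ := CAlgH3.exists_depth_eq_natCast (R := R) (M := R)
  have hn : ringKrullDim R = (n : WithBot ℕ∞) := by
    rw [(CAlgH3.isCohenMacaulayLocalRing_iff_depth R).1 inferInstance, hn']; rfl
  have hnS : ringKrullDim S = (n : WithBot ℕ∞) := (ringKrullDim_eq_of_ringEquiv e).symm.trans hn
  obtain ⟨xs, hlen, hmem, hreg, hrad⟩ := LocCoh.exists_parameters_in_pow hn 1
  have hm : (maximalIdeal R).map e.toRingHom = maximalIdeal S :=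
    IsLocalRing.eq_maximalIdeal (Ideal.map_isMaximal_of_equiv e)
  have hmemR : ∀ x ∈ xs, x ∈ maximalIdeal R := fun x hx => by simpa using hmem x hx
  obtain ⟨a, ha, hae, haline⟩ := (LocCoh.nonempty_socle_iff hlen hmemR hreg.toIsWeaklyRegular hrad).mp
    ((LocCoh.gorenstein_iff_socle hn).mp inferInstance)
  have hJ : (Ideal.ofList xs).map e.toRingHom = Ideal.ofList (xs.map e) := Ideal.map_ofList _ _
  have hmem_iff : ∀ (I : Ideal R) (x : R), e x ∈ I.map e.toRingHom ↔ x ∈ I := by
    intro I x
    refine ⟨fun h => ?_, Ideal.mem_map_of_mem e.toRingHom⟩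
    obtain ⟨y, hy, hxy⟩ := (Ideal.mem_map_iff_of_surjective e.toRingHom e.surjective).mp h
    exact e.injective hxy ▸ hy
  refine (LocCoh.gorenstein_iff_socle hnS).mpr ((LocCoh.nonempty_socle_iff (xs := xs.map e) (by simp [hlen]) ?_ ?_ ?_).mpr ?_)
  · intro y hy
    obtain ⟨x, hx, rfl⟩ := List.mem_map.mp hy
    rw [← hm]
    exact Ideal.mem_map_of_mem e.toRingHom (hmemR x hx)
  · exact (AddEquiv.isWeaklyRegular_congr (e := e.toAddEquiv) (List.forall₂_map_right_iff.mpr
      (List.forall₂_same.mpr fun r _ x => map_mul e r x))).mp hreg.toIsWeaklyRegular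
  · rw [← hJ, ← hm]
    exact (Ideal.map_mono hrad).trans (Ideal.map_radical_le _)
  · refine ⟨e a, fun h => ha ((hmem_iff _ a).mp (hJ ▸ h)), fun b hb => ?_, fun z hz => ?_⟩
    · obtain ⟨b, rfl⟩ := e.surjective b
      rw [← hm, hmem_iff] at hb
      rw [← hJ, ← map_mul, hmem_iff]
      exact hae b hb
    · obtain ⟨z, rfl⟩ := e.surjective z
      have h := haline z fun b hb => by
        have := hz (e b) (by rw [← hm]; exact Ideal.mem_map_of_mem e.toRingHom hb)
        rwa [← hJ, ← map_mul, hmem_iff] at this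
      have := Ideal.mem_map_of_mem e.toRingHom h
      rw [Ideal.map_sup, hJ, Ideal.map_span, Set.image_singleton] at this
      exact this

theorem gorensteinRing_of_ringEquiv {R S : Type u} [CommRing R] [CommRing S] (e : R ≃+* S)
    [LocCoh.IsGorensteinRing R] : LocCoh.IsGorensteinRing S where
  noetherian := (isNoetherianRing_of_ringEquiv R e).noetherian
  isGorensteinLocalRing_localization q _ := by
    let p := q.comap e.toRingHom
    haveI : LocCoh.IsGorensteinLocalRing (Localization.AtPrime p) :=
      LocCoh.IsGorensteinRing.isGorensteinLocalRing_localization p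
    refine gorensteinLocal_of_ringEquiv (IsLocalization.ringEquivOfRingEquiv (M := p.primeCompl) (Localization.AtPrime p)
      (Localization.AtPrime q) e (T := q.primeCompl) ?_)
    ext x
    simp only [Submonoid.mem_map]
    constructor
    · rintro ⟨y, hy, rfl⟩; exact hy
    · intro hx; exact ⟨e.symm x, by show e (e.symm x) ∉ q; rw [e.apply_symm_apply]; exact hx, e.apply_symm_apply x⟩

end Groth.Agent.SegreDim
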