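import Mathlib.Algebra.Algebra.Bilinear
import Mathlib.RingTheory.FiniteType
import Mathlib.RingTheory.TensorProduct.Finite
import Mathlib.RingTheory.FiniteStability
import Mathlib.Algebra.GradedMulAction
import Mathlib.RingTheory.GradedAlgebra.Basic
import Groth.Prelude.Def_GrSeg

/-!
# The diagonal projection onto a Segre product, and finiteness
-/

set_option autoImplicit false
universe u

open DirectSum TensorProduct

namespace Groth.Agent.SegreDim

variable {k : Type u} [Field k] {R : Type u} [CommRing R] [Algebra k R] (𝒜 : ℤ → Submodule k R)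
  [GradedAlgebra 𝒜]
variable {M : Type u} [AddCommGroup M] [Module R M] [Module k M] [IsScalarTower k R M]
  {τ : Type u} [SetLike τ M] [AddSubgroupClass τ M] (ℳ : ℤ → τ) [DirectSum.Decomposition ℳ]
  [SetLike.GradedSMul 𝒜 ℳ]

include 𝒜 in
theorem smul_mem_piece (c : k) {n : ℤ} {x : M} (hx : x ∈ ℳ n) : c • x ∈ ℳ n := by
  rw [← IsScalarTower.algebraMap_smul R c x, Algebra.algebraMap_eq_smul_one]
  have := SetLike.GradedSMul.smul_mem (A := 𝒜) (B := ℳ) (Submodule.smul_mem _ c SetLike.GradedOne.one_mem) hx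
  rwa [zero_vadd] at this

/-- projection onto a degree, linearly over the base field -/
noncomputable def pieceProj (n : ℤ) : M →ₗ[k] M where
  toFun x := (decompose ℳ x n : M)
  map_add' x y := by simp [decompose_add]
  map_smul' c x := by
    classical
    simp only [RingHom.id_apply]
    have key : ∀ (i : ℤ) (m : M), m ∈ ℳ i →
        (decompose ℳ (c • m) n : M) = c • (decompose ℳ m n : M) := by
      intro i m hm
      have hcm := smul_mem_piece 𝒜 ℳ c hm
      rcases eq_or_ne i n with rfl | h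
      · rw [decompose_of_mem_same ℳ hm, decompose_of_mem_same ℳ hcm]
      · rw [decompose_of_mem_ne ℳ hm h, decompose_of_mem_ne ℳ hcm h, smul_zero]
    conv_lhs => rw [← sum_support_decompose ℳ x, Finset.smul_sum, decompose_sum, DFinsupp.finsetSum_apply,
      AddSubmonoidClass.coe_finsetSum]
    conv_rhs => rw [← sum_support_decompose ℳ x, decompose_sum, DFinsupp.finsetSum_apply,
      AddSubmonoidClass.coe_finsetSum, Finset.smul_sum]
    exact Finset.sum_congr rfl fun i _ => key i _ (decompose ℳ x i).2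

theorem pieceProj_apply (n : ℤ) (x : M) : pieceProj 𝒜 ℳ n x = (decompose ℳ x n : M) := rfl

variable {S : Type u} [CommRing S] [Algebra k S] (ℬ : ℤ → Submodule k S) [GradedAlgebra ℬ]
variable {N : Type u} [AddCommGroup N] [Module S N] [Module k N] [IsScalarTower k S N]
  {τ' : Type u} [SetLike τ' N] [AddSubgroupClass τ' N] (𝒩 : ℤ → τ') [DirectSum.Decomposition 𝒩]
  [SetLike.GradedSMul ℬ 𝒩]

/-- `x ⊗ y ↦ Σ_n x_n ⊗ y_n`, as an additive map in `x` -/
noncomputable def diagAux : M →+ (N →ₗ[k] M ⊗[k] N) :=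
  (DirectSum.toAddMonoid fun n : ℤ =>
    ({ toFun := fun a : ℳ n => (TensorProduct.mk k M N (a : M)).comp (pieceProj ℬ 𝒩 n)
       map_zero' := by simp
       map_add' := fun a b => by simp [LinearMap.add_comp] } : ℳ n →+ (N →ₗ[k] M ⊗[k] N))).comp
    (decomposeAddEquiv ℳ).toAddMonoidHom

theorem diagAux_of_mem {i : ℤ} {x : M} (hx : x ∈ ℳ i) (y : N) :
    diagAux ℳ ℬ 𝒩 x y = x ⊗ₜ[k] (decompose 𝒩 y i : N) := by
  rw [diagAux, AddMonoidHom.comp_apply, AddEquiv.coe_toAddMonoidHom, decomposeAddEquiv_apply,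
    decompose_of_mem ℳ hx, DirectSum.toAddMonoid_of]
  rfl

/-- the diagonal projection of `M ⊗ N` -/
noncomputable def diag : M ⊗[k] N →ₗ[k] M ⊗[k] N :=
  TensorProduct.lift
    { toFun := diagAux ℳ ℬ 𝒩
      map_add' := map_add _
      map_smul' := fun c x => by
        classical
        ext y
        simp only [RingHom.id_apply, LinearMap.smul_apply]
        have key : ∀ (i : ℤ) (m : M), m ∈ ℳ i →
            diagAux ℳ ℬ 𝒩 (c • m) y = c • diagAux ℳ ℬ 𝒩 m y := by
          intro i m hm
          rw [diagAux_of_mem ℳ ℬ 𝒩 (smul_mem_piece 𝒜 ℳ c hm), diagAux_of_mem ℳ ℬ 𝒩 hm, smul_tmul']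
        rw [← sum_support_decompose ℳ x, Finset.smul_sum, map_sum, map_sum, LinearMap.sum_apply,
          LinearMap.sum_apply, Finset.smul_sum]
        exact Finset.sum_congr rfl fun i _ => key i _ (decompose ℳ x i).2 }

theorem diag_tmul {i j : ℤ} {x : M} {y : N} (hx : x ∈ ℳ i) (hy : y ∈ 𝒩 j) :
    diag 𝒜 ℳ ℬ 𝒩 (x ⊗ₜ[k] y) = if i = j then x ⊗ₜ[k] y else 0 := by
  rw [diag, TensorProduct.lift.tmul]
  show diagAux ℳ ℬ 𝒩 x y = _
  rw [diagAux_of_mem ℳ ℬ 𝒩 hx]
  split_ifs with h
  · subst h; rw [decompose_of_mem_same 𝒩 hy]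
  · rw [decompose_of_mem_ne 𝒩 hy (Ne.symm h), tmul_zero]

theorem diag_eq_self {n : ℤ} {w : M ⊗[k] N} (hw : w ∈ GrSeg.segrePiece k ℳ 𝒩 n) :
    diag 𝒜 ℳ ℬ 𝒩 w = w := by
  induction hw using Submodule.span_induction with
  | mem x hx => obtain ⟨a, ha, b, hb, rfl⟩ := hx; rw [diag_tmul 𝒜 ℳ ℬ 𝒩 ha hb, if_pos rfl]
  | zero => simp
  | add p q _ _ hp hq => simp [hp, hq]
  | smul c p _ hp => simp [hp]

theorem diag_mem (z : M ⊗[k] N) : diag 𝒜 ℳ ℬ 𝒩 z ∈ ⨆ n : ℤ, GrSeg.segrePiece k ℳ 𝒩 n := by
  classical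
  induction z using TensorProduct.induction_on with
  | zero => simp
  | add p q hp hq => rw [map_add]; exact add_mem hp hq
  | tmul x y =>
    rw [← sum_support_decompose ℳ x, ← sum_support_decompose 𝒩 y, sum_tmul, map_sum]
    refine Submodule.sum_mem _ fun i _ => ?_
    rw [tmul_sum, map_sum]
    refine Submodule.sum_mem _ fun j _ => ?_
    rw [diag_tmul 𝒜 ℳ ℬ 𝒩 (decompose ℳ x i).2 (decompose 𝒩 y j).2]
    split_ifs with h
    · exact Submodule.mem_iSup_of_mem i (Submodule.subset_span
        ⟨_, (decompose ℳ x i).2, _, h ▸ (decompose 𝒩 y j).2, rfl⟩)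
    · exact zero_mem _

theorem diag_act {n : ℤ} {w : M ⊗[k] N} (hw : w ∈ GrSeg.segrePiece k ℳ 𝒩 n) (z : R ⊗[k] S) :
    diag 𝒜 ℳ ℬ 𝒩 (GrSeg.act k R S M N z w) =
      GrSeg.act k R S M N (diag 𝒜 𝒜 ℬ ℬ z) w := by
  classical
  induction hw using Submodule.span_induction with
  | zero => simp
  | add p q _ _ hp hq => simp [hp, hq]
  | smul c p _ hp => simp [hp]
  | mem x hx =>
    obtain ⟨a, ha, b, hb, rfl⟩ := hx
    induction z using TensorProduct.induction_on with
    | zero => simp
    | add p q hp hq => simp [hp, hq]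
    | tmul r s =>
      rw [← sum_support_decompose 𝒜 r, ← sum_support_decompose ℬ s, sum_tmul, map_sum,
        LinearMap.sum_apply, map_sum, map_sum, map_sum, LinearMap.sum_apply]
      refine Finset.sum_congr rfl fun i _ => ?_
      rw [tmul_sum, map_sum, LinearMap.sum_apply, map_sum, map_sum, map_sum, LinearMap.sum_apply]
      refine Finset.sum_congr rfl fun j _ => ?_
      have hra : (decompose 𝒜 r i : R) • a ∈ ℳ (i + n) :=
        SetLike.GradedSMul.smul_mem (decompose 𝒜 r i).2 ha
      have hsb : (decompose ℬ s j : S) • b ∈ 𝒩 (j + n) :=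
        SetLike.GradedSMul.smul_mem (decompose ℬ s j).2 hb
      rw [GrSeg.act_tmul, diag_tmul 𝒜 ℳ ℬ 𝒩 hra hsb,
        diag_tmul 𝒜 𝒜 ℬ ℬ (decompose 𝒜 r i).2 (decompose ℬ s j).2]
      simp only [add_left_inj]
      split_ifs with h
      · rw [GrSeg.act_tmul]
      · simp

theorem act_eq_mul (z w : R ⊗[k] S) : GrSeg.act k R S R S z w = z * w := by
  induction z using TensorProduct.induction_on with
  | zero => simp
  | add p q hp hq => simp [hp, hq, add_mul]
  | tmul r s =>
    induction w using TensorProduct.induction_on with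
    | zero => simp
    | add p q hp hq => simp only [map_add, mul_add, hp, hq]
    | tmul a b => rw [GrSeg.act_tmul, smul_eq_mul, smul_eq_mul, Algebra.TensorProduct.tmul_mul_tmul]

theorem act_one (w : M ⊗[k] N) : GrSeg.act k R S M N 1 w = w := by
  induction w using TensorProduct.induction_on with
  | zero => simp
  | add p q hp hq => simp [hp, hq]
  | tmul a b => rw [Algebra.TensorProduct.one_def, GrSeg.act_tmul, one_smul, one_smul]

theorem act_mul (z z' : R ⊗[k] S) (w : M ⊗[k] N) :
    GrSeg.act k R S M N (z * z') w = GrSeg.act k R S M N z (GrSeg.act k R S M N z' w) := by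
  induction z using TensorProduct.induction_on with
  | zero => simp
  | add p q hp hq => simp [add_mul, hp, hq]
  | tmul r s =>
    induction z' using TensorProduct.induction_on with
    | zero => simp
    | add p q hp hq => simp [mul_add, hp, hq]
    | tmul r' s' =>
      induction w using TensorProduct.induction_on with
      | zero => simp
      | add p q hp hq => simp only [map_add, hp, hq]
      | tmul a b => rw [Algebra.TensorProduct.tmul_mul_tmul, GrSeg.act_tmul, GrSeg.act_tmul,
          GrSeg.act_tmul, mul_smul, mul_smul]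

/-- Segre products of finitely generated modules are Noetherian. -/
theorem isNoetherian_segre [Algebra.FiniteType k R] [Algebra.FiniteType k S]
    [Module.Finite R M] [Module.Finite S N]
    {T : Type u} [CommRing T] [Algebra k T] (𝒯 : ℤ → Submodule k T) (ψ : T →ₐ[k] R ⊗[k] S)
    (hdegT : ∀ n : ℤ, (𝒯 n).map ψ.toLinearMap = GrSeg.segrePiece k 𝒜 ℬ n)
    {P : Type u} [AddCommGroup P] [Module T P] [Module k P]
    {τQ : Type u} [SetLike τQ P] [AddSubgroupClass τQ P] (𝒬 : ℤ → τQ) [DirectSum.Decomposition 𝒬]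
    (φ : P →ₗ[k] M ⊗[k] N) (hφ : Function.Injective φ)
    (hdegP : ∀ n : ℤ, φ '' (𝒬 n : Set P) = (GrSeg.segrePiece k ℳ 𝒩 n : Set (M ⊗[k] N)))
    (hsmul : ∀ (t : T) (p : P), φ (t • p) = GrSeg.act k R S M N (ψ t) (φ p)) :
    IsNoetherian T P := by
  classical
  haveI : Algebra.FiniteType k (R ⊗[k] S) :=
    Algebra.FiniteType.trans (S := R) inferInstance inferInstance
  haveI : IsNoetherianRing (R ⊗[k] S) := Algebra.FiniteType.isNoetherianRing k _
  letI : Module (R ⊗[k] S) (M ⊗[k] N) :=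
    { smul := fun z w => GrSeg.act k R S M N z w
      one_smul := act_one
      mul_smul := act_mul
      smul_zero := fun z => map_zero (GrSeg.act k R S M N z)
      smul_add := fun z => map_add (GrSeg.act k R S M N z)
      add_smul := fun z z' w => by
        show GrSeg.act k R S M N (z + z') w = GrSeg.act k R S M N z w + GrSeg.act k R S M N z' w
        rw [map_add]; rfl
      zero_smul := fun w => by
        show GrSeg.act k R S M N 0 w = 0
        rw [map_zero]; rfl }
  haveI : Module.Finite (R ⊗[k] S) (M ⊗[k] N) := by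
    obtain ⟨gs, hgs⟩ := (inferInstance : Module.Finite R M).fg_top
    obtain ⟨hs, hhs⟩ := (inferInstance : Module.Finite S N).fg_top
    refine ⟨⟨(gs ×ˢ hs).image fun p => p.1 ⊗ₜ[k] p.2, ?_⟩⟩
    rw [eq_top_iff]
    intro w hw_top
    clear hw_top
    induction w using TensorProduct.induction_on with
    | zero => exact zero_mem _
    | add p q hp hq => exact add_mem hp hq
    | tmul a b =>
      have ha : a ∈ Submodule.span R (gs : Set M) := hgs ▸ Submodule.mem_top
      have hb : b ∈ Submodule.span S (hs : Set N) := hhs ▸ Submodule.mem_top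
      induction ha using Submodule.span_induction with
      | zero => rw [zero_tmul]; exact zero_mem _
      | add p q _ _ hp hq => rw [add_tmul]; exact add_mem hp hq
      | smul r p _ hp =>
        have : (r • p) ⊗ₜ[k] b = (r ⊗ₜ[k] (1 : S)) • (p ⊗ₜ[k] b) :=
          ((GrSeg.act_tmul r (1 : S) p b).trans (by rw [one_smul])).symm
        rw [this]; exact Submodule.smul_mem _ _ hp
      | mem a ha =>
        induction hb using Submodule.span_induction with
        | zero => rw [tmul_zero]; exact zero_mem _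
        | add p q _ _ hp hq => rw [tmul_add]; exact add_mem hp hq
        | smul s p _ hp =>
          have : a ⊗ₜ[k] (s • p) = ((1 : R) ⊗ₜ[k] s) • (a ⊗ₜ[k] p) :=
            ((GrSeg.act_tmul (1 : R) s a p).trans (by rw [one_smul])).symm
          rw [this]; exact Submodule.smul_mem _ _ hp
        | mem b hb =>
          exact Submodule.subset_span (Finset.mem_coe.mpr (Finset.mem_image.mpr
            ⟨(a, b), Finset.mem_product.mpr ⟨ha, hb⟩, rfl⟩))
  have hfix : ∀ p : P, diag 𝒜 ℳ ℬ 𝒩 (φ p) = φ p := by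
    intro p
    rw [← sum_support_decompose 𝒬 p, map_sum, map_sum]
    refine Finset.sum_congr rfl fun n _ => diag_eq_self 𝒜 ℳ ℬ 𝒩 (n := n) ?_
    exact (hdegP n).subset ⟨_, (decompose 𝒬 p n).2, rfl⟩
  have hkey : ∀ (z : R ⊗[k] S) (p : P),
      diag 𝒜 ℳ ℬ 𝒩 (GrSeg.act k R S M N z (φ p)) = GrSeg.act k R S M N (diag 𝒜 𝒜 ℬ ℬ z) (φ p) := by
    intro z p
    rw [← sum_support_decompose 𝒬 p, map_sum, map_sum, map_sum, map_sum]
    refine Finset.sum_congr rfl fun n _ => diag_act 𝒜 ℳ ℬ 𝒩 (n := n) ?_ z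
    exact (hdegP n).subset ⟨_, (decompose 𝒬 p n).2, rfl⟩
  have hrange : ∀ z : R ⊗[k] S, ∃ t : T, ψ t = diag 𝒜 𝒜 ℬ ℬ z := by
    intro z
    have hle : (⨆ n : ℤ, GrSeg.segrePiece k 𝒜 ℬ n) ≤ LinearMap.range ψ.toLinearMap :=
      iSup_le fun n => by rw [← hdegT]; exact LinearMap.map_le_range
    exact hle (diag_mem 𝒜 𝒜 ℬ ℬ z)
  let G : Submodule T P → Submodule (R ⊗[k] S) (M ⊗[k] N) := fun Q => Submodule.span _ (φ '' (Q : Set P))
  have hG : ∀ (Q : Submodule T P) (w : M ⊗[k] N), w ∈ G Q → ∃ q ∈ Q, φ q = diag 𝒜 ℳ ℬ 𝒩 w := by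
    intro Q w hw
    have hw' : ∀ z : R ⊗[k] S, ∃ q ∈ Q, φ q = diag 𝒜 ℳ ℬ 𝒩 (z • w) := by
      induction hw using Submodule.span_induction with
      | zero => intro z; exact ⟨0, zero_mem _, by rw [smul_zero, map_zero, map_zero]⟩
      | add p q _ _ hp hq =>
        intro z
        obtain ⟨a, ha, ha'⟩ := hp z
        obtain ⟨b, hb, hb'⟩ := hq z
        exact ⟨a + b, add_mem ha hb, by rw [map_add, ha', hb', smul_add, map_add]⟩
      | smul c p _ hp => intro z; rw [smul_smul]; exact hp _
      | mem x hx =>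
        intro z
        obtain ⟨q, hq, rfl⟩ := hx
        obtain ⟨t, ht⟩ := hrange z
        refine ⟨t • q, Q.smul_mem t hq, ?_⟩
        rw [hsmul, ht]
        exact (hkey z q).symm
    have h1 := hw' 1
    rwa [one_smul] at h1
  have hmono : StrictMono G := by
    intro Q Q' hlt
    refine lt_of_le_of_ne (Submodule.span_mono (Set.image_mono hlt.le)) fun he => hlt.not_ge fun x hx => ?_
    obtain ⟨q, hq, hqx⟩ := hG Q (φ x) (he ▸ Submodule.subset_span ⟨x, hx, rfl⟩)
    rw [hfix] at hqx
    exact hφ hqx ▸ hq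
  rw [isNoetherian_iff']
  exact hmono.wellFoundedGT

end Groth.Agent.SegreDim
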