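import Mathlib.RingTheory.TensorProduct.Basic
import Mathlib.RingTheory.Localization.FractionRing
import Mathlib.RingTheory.Flat.Basic
import Mathlib.RingTheory.Algebraic.Integral
import Mathlib.Algebra.MvPolynomial.Expand
import Groth.Agent.SegreDim.Hsop

/-!
# Dimension of Segre products
-/

set_option autoImplicit false
universe u

open DirectSum TensorProduct MvPolynomial

namespace Groth.Agent.SegreDim

variable {k : Type u} [Field k]

section Projection

variable {R S : Type u} [CommRing R] [Algebra k R] [CommRing S] [Algebra k S]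
  (𝒜 : ℤ → Submodule k R) [GradedAlgebra 𝒜] (ℬ : ℤ → Submodule k S) [GradedAlgebra ℬ]

/-- projection onto a bidegree -/
noncomputable def biproj (a b : ℤ) : R ⊗[k] S →ₗ[k] R ⊗[k] S :=
  TensorProduct.map (GradedAlgebra.proj 𝒜 a) (GradedAlgebra.proj ℬ b)

theorem biproj_mul {i j : ℤ} {x : R} {y : S} (hx : x ∈ 𝒜 i) (hy : y ∈ ℬ j) (a b : ℤ) (z : R ⊗[k] S) :
    biproj 𝒜 ℬ (a + i) (b + j) (z * (x ⊗ₜ[k] y)) = biproj 𝒜 ℬ a b z * (x ⊗ₜ[k] y) := by
  induction z using TensorProduct.induction_on with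
  | zero => simp
  | tmul p q =>
    simp only [Algebra.TensorProduct.tmul_mul_tmul, biproj, TensorProduct.map_tmul,
      GradedAlgebra.proj_apply]
    rw [DirectSum.coe_decompose_mul_add_of_right_mem 𝒜 hx,
      DirectSum.coe_decompose_mul_add_of_right_mem ℬ hy]
  | add p q hp hq => simp [add_mul, hp, hq]

theorem biproj_mul_piece {n : ℤ} {w : R ⊗[k] S}
    (hw : w ∈ Submodule.span k {x : R ⊗[k] S | ∃ a ∈ 𝒜 n, ∃ b ∈ ℬ n, x = a ⊗ₜ[k] b}) (a b : ℤ) (z : R ⊗[k] S) :
    biproj 𝒜 ℬ (a + n) (b + n) (z * w) = biproj 𝒜 ℬ a b z * w := by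
  induction hw using Submodule.span_induction with
  | mem x hx => obtain ⟨p, hp, q, hq, rfl⟩ := hx; exact biproj_mul 𝒜 ℬ hp hq a b z
  | zero => simp
  | add p q _ _ hp hq => simp [mul_add, hp, hq]
  | smul c p _ hp => simp [mul_smul_comm, hp]

open Classical in
theorem biproj_of_mem {i j : ℤ} {x : R} {y : S} (hx : x ∈ 𝒜 i) (hy : y ∈ ℬ j) (a b : ℤ) :
    biproj 𝒜 ℬ a b (x ⊗ₜ[k] y) = if i = a ∧ j = b then x ⊗ₜ[k] y else 0 := by
  rw [biproj, TensorProduct.map_tmul, GradedAlgebra.proj_apply, GradedAlgebra.proj_apply]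
  split_ifs with h
  · obtain ⟨rfl, rfl⟩ := h
    rw [DirectSum.decompose_of_mem_same 𝒜 hx, DirectSum.decompose_of_mem_same ℬ hy]
  · rcases not_and_or.mp h with h | h
    · rw [DirectSum.decompose_of_mem_ne 𝒜 hx h, zero_tmul]
    · rw [DirectSum.decompose_of_mem_ne ℬ hy h, tmul_zero]

theorem prod_pow_mem {l : ℕ} (D : ℕ) (y : Fin l → R) (hy : ∀ i, y i ∈ 𝒜 (D : ℤ)) (e : Fin l → ℕ) :
    ∏ i, y i ^ e i ∈ 𝒜 ((D * ∑ i, e i : ℕ) : ℤ) := by
  have := SetLike.prod_mem_graded (A := 𝒜) (fun i => e i • (D : ℤ)) (fun i => y i ^ e i)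
    (F := Finset.univ) fun i _ => SetLike.pow_mem_graded _ (hy i)
  convert this using 2
  rw [Finset.mul_sum, Nat.cast_sum]
  exact Finset.sum_congr rfl fun i _ => by rw [nsmul_eq_mul]; push_cast; ring

end Projection

section Model

variable (k) (r s : ℕ)

/-- the Segre product of two polynomial rings -/
noncomputable def model : Subalgebra k (MvPolynomial (Fin (r + 1) ⊕ Fin (s + 1)) k) :=
  Algebra.adjoin k (Set.range fun p : Fin (r + 1) × Fin (s + 1) => X (Sum.inl p.1) * X (Sum.inr p.2))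

variable {k r s}

theorem monomial_mem_model : ∀ (N : ℕ) (e : (Fin (r + 1) ⊕ Fin (s + 1)) →₀ ℕ),
    (∑ i, e (Sum.inl i) = N) → (∑ j, e (Sum.inr j) = N) → (monomial e (1 : k)) ∈ model k r s := by
  intro N
  induction N with
  | zero =>
    intro e h1 h2
    have : e = 0 := by
      ext (i | j)
      · exact Nat.eq_zero_of_le_zero (h1 ▸ Finset.single_le_sum (f := fun i => e (Sum.inl i)) (fun _ _ => Nat.zero_le _) (Finset.mem_univ i))
      · exact Nat.eq_zero_of_le_zero (h2 ▸ Finset.single_le_sum (f := fun j => e (Sum.inr j)) (fun _ _ => Nat.zero_le _) (Finset.mem_univ j))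
    rw [this]; exact one_mem _
  | succ N ih =>
    intro e h1 h2
    classical
    obtain ⟨i, -, hi⟩ := Finset.exists_ne_zero_of_sum_ne_zero (show ∑ i, e (Sum.inl i) ≠ 0 by omega)
    obtain ⟨j, -, hj⟩ := Finset.exists_ne_zero_of_sum_ne_zero (show ∑ j, e (Sum.inr j) ≠ 0 by omega)
    let g := Finsupp.single (Sum.inl i : Fin (r + 1) ⊕ Fin (s + 1)) 1 + Finsupp.single (Sum.inr j) 1
    have hge : g ≤ e := by
      intro x
      simp only [g, Finsupp.add_apply, Finsupp.single_apply]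
      rcases x with x | x
      · simp only [reduceCtorEq, if_false, add_zero, Sum.inl.injEq]
        split_ifs with h
        · subst h; omega
        · exact Nat.zero_le _
      · simp only [reduceCtorEq, if_false, zero_add, Sum.inr.injEq]
        split_ifs with h
        · subst h; omega
        · exact Nat.zero_le _
    have hdec : monomial e (1 : k) = monomial (e - g) 1 * (X (Sum.inl i) * X (Sum.inr j)) := by
      simp only [X, monomial_mul, mul_one]
      congr 2
      exact (tsub_add_cancel_of_le hge).symm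
    rw [hdec]
    refine mul_mem (ih _ ?_ ?_) (Algebra.subset_adjoin ⟨(i, j), rfl⟩)
    · have hsum : ∑ x, (e - g) (Sum.inl x) + ∑ x, g (Sum.inl x) = N + 1 := by
        rw [← Finset.sum_add_distrib, ← h1]
        exact Finset.sum_congr rfl fun x _ => by rw [← Finsupp.add_apply, tsub_add_cancel_of_le hge]
      have hg1 : ∑ x, g (Sum.inl x) = 1 := by simp [g, Finsupp.single_apply]
      omega
    · have hsum : ∑ x, (e - g) (Sum.inr x) + ∑ x, g (Sum.inr x) = N + 1 := by
        rw [← Finset.sum_add_distrib, ← h2]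
        exact Finset.sum_congr rfl fun x _ => by rw [← Finsupp.add_apply, tsub_add_cancel_of_le hge]
      have hg1 : ∑ x, g (Sum.inr x) = 1 := by simp [g, Finsupp.single_apply]
      omega

/-- `Z₀ ↦ 1` -/
noncomputable def dehom : MvPolynomial (Fin (r + 1) ⊕ Fin (s + 1)) k →ₐ[k] MvPolynomial (Fin (r + 1) ⊕ Fin s) k :=
  aeval (Sum.elim (fun i => X (Sum.inl i)) (Fin.cases 1 fun j => X (Sum.inr j)))

theorem dehom_injective : Function.Injective ((dehom (k := k) (r := r) (s := s)).comp (model k r s).val) := by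
  let P := MvPolynomial (Fin (r + 1) ⊕ Fin (s + 1)) k
  let L := FractionRing P
  let z : L := algebraMap P L (X (Sum.inr 0))
  have hz : z ≠ 0 := by simpa [z] using X_ne_zero _
  let ε : MvPolynomial (Fin (r + 1) ⊕ Fin s) k →ₐ[k] L :=
    aeval (Sum.elim (fun i => algebraMap P L (X (Sum.inl i)) * z)
      (fun j => algebraMap P L (X (Sum.inr j.succ)) / z))
  have he : (ε.comp dehom).comp (model k r s).val = (IsScalarTower.toAlgHom k P L).comp (model k r s).val := by
    refine AlgHom.ext_of_adjoin_eq_top (Algebra.adjoin_adjoin_coe_preimage) fun x hx => ?_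
    obtain ⟨⟨i, j⟩, hp⟩ := hx
    change ε (dehom x.1) = algebraMap P L x.1
    rw [← hp, map_mul, map_mul, map_mul]
    refine Fin.cases ?_ (fun j => ?_) j
    · simp [ε, dehom, z, P]
    · simp [ε, dehom, P]
      rw [mul_assoc, mul_div_cancel₀ _ hz]
  intro x x' hxx
  have h2 := congrArg ε hxx
  have e1 := AlgHom.congr_fun he x
  have e2 := AlgHom.congr_fun he x'
  simp only [AlgHom.comp_apply] at e1 e2 h2
  rw [e1, e2] at h2
  exact Subtype.ext (IsFractionRing.injective P L h2)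

theorem exists_model_embedding :
    ∃ w : MvPolynomial (Fin (r + 1) ⊕ Fin s) k →ₐ[k] model k r s, Function.Injective w := by
  let w : MvPolynomial (Fin (r + 1) ⊕ Fin s) k →ₐ[k] model k r s :=
    aeval (Sum.elim (fun i => ⟨_, Algebra.subset_adjoin ⟨(i, 0), rfl⟩⟩)
      (fun j => ⟨_, Algebra.subset_adjoin ⟨(0, j.succ), rfl⟩⟩))
  refine ⟨w, ?_⟩
  let Q := MvPolynomial (Fin (r + 1) ⊕ Fin s) k
  let L := FractionRing Q
  let a : L := algebraMap Q L (X (Sum.inl 0))
  have ha : a ≠ 0 := by simpa [a] using X_ne_zero _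
  let ε : Q →ₐ[k] L :=
    aeval (Sum.elim (fun i => algebraMap Q L (X (Sum.inl i))) (fun j => algebraMap Q L (X (Sum.inr j)) / a))
  have he : (ε.comp dehom).comp ((model k r s).val.comp w) = IsScalarTower.toAlgHom k Q L := by
    refine MvPolynomial.algHom_ext fun x => ?_
    rcases x with i | j
    · simp [w, ε, dehom, a, Q]
    · simp [w, ε, dehom, a, Q]
      rw [mul_div_cancel₀ _ ha]
  intro x x' hxx
  have h1 := AlgHom.congr_fun he x
  have h2 := AlgHom.congr_fun he x'
  simp only [AlgHom.comp_apply] at h1 h2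
  rw [hxx, h2] at h1
  exact (IsFractionRing.injective Q L h1).symm

theorem ringKrullDim_model : ringKrullDim (model k r s) = ((r + 1 + s : ℕ) : WithBot ℕ∞) := by
  haveI : Algebra.FiniteType k (model k r s) :=
    ⟨(Subalgebra.fg_top _).mpr (Subalgebra.fg_def.mpr ⟨_, Set.finite_range _, rfl⟩)⟩
  obtain ⟨w, hw⟩ := exists_model_embedding (k := k) (r := r) (s := s)
  have h1 := trdeg_le_of_injective w hw
  have h2 := trdeg_le_of_injective _ (dehom_injective (k := k) (r := r) (s := s))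
  rw [MvPolynomial.trdeg_of_isDomain] at h1 h2
  have : Algebra.trdeg k (model k r s) = ((r + 1 + s : ℕ) : Cardinal) := by
    refine le_antisymm (h2.trans_eq ?_) (le_of_eq_of_le ?_ h1) <;> simp
  rw [DimLib.ringKrullDim_eq_trdeg (k := k), this, Cardinal.toNat_natCast]

end Model

/-- **Dimension of Segre products.** -/
theorem ringKrullDim_segre {R S T : Type u} [CommRing R] [Algebra k R] (𝒜 : ℤ → Submodule k R)
    [GradedAlgebra 𝒜] (hposR : ∀ n : ℤ, n < 0 → 𝒜 n = ⊥) (h0R : 𝒜 0 = Submodule.span k {(1 : R)})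
    [Algebra.FiniteType k R] [CommRing S] [Algebra k S] (ℬ : ℤ → Submodule k S) [GradedAlgebra ℬ]
    (hposS : ∀ n : ℤ, n < 0 → ℬ n = ⊥) (h0S : ℬ 0 = Submodule.span k {(1 : S)}) [Algebra.FiniteType k S]
    [CommRing T] [Algebra k T] (𝒯 : ℤ → Submodule k T) [GradedAlgebra 𝒯]
    (ψ : T →ₐ[k] R ⊗[k] S) (hψ : Function.Injective ψ)
    (hdegT : ∀ n : ℤ, (𝒯 n).map ψ.toLinearMap =
      Submodule.span k {x : R ⊗[k] S | ∃ a ∈ 𝒜 n, ∃ b ∈ ℬ n, x = a ⊗ₜ[k] b})
    (r s : ℕ) (hr : ringKrullDim R = ((r + 1 : ℕ) : WithBot ℕ∞))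
    (hs : ringKrullDim S = ((s + 1 : ℕ) : WithBot ℕ∞)) :
    ringKrullDim T = ((r + 1 + s : ℕ) : WithBot ℕ∞) := by
  classical
  obtain ⟨Dy, y₁, hDy, hy₁, hy₁inj, hy₁fin⟩ := exists_normalization 𝒜 hposR h0R (r + 1) hr
  obtain ⟨Dz, z₁, hDz, hz₁, hz₁inj, hz₁fin⟩ := exists_normalization ℬ hposS h0S (s + 1) hs
  -- parameters of one common degree
  let D := Dy * Dz
  have hD : 0 < D := Nat.mul_pos hDy hDz
  let y : Fin (r + 1) → R := fun i => y₁ i ^ Dz
  let z : Fin (s + 1) → S := fun i => z₁ i ^ Dy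
  have hy : ∀ i, y i ∈ 𝒜 (D : ℤ) := fun i => by
    have := SetLike.pow_mem_graded (A := 𝒜) Dz (hy₁ i)
    rw [nsmul_eq_mul, mul_comm] at this
    simpa [D] using this
  have hz : ∀ i, z i ∈ ℬ (D : ℤ) := fun i => by
    have := SetLike.pow_mem_graded (A := ℬ) Dy (hz₁ i)
    simpa [D, nsmul_eq_mul] using this
  have key : ∀ {A : Type u} [CommRing A] [Algebra k A] {l : ℕ} (x : Fin l → A) (e : ℕ), 0 < e →
      Function.Injective (aeval x : MvPolynomial (Fin l) k →ₐ[k] A) →
      (aeval x : MvPolynomial (Fin l) k →ₐ[k] A).Finite →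
      Function.Injective (aeval (fun i => x i ^ e) : MvPolynomial (Fin l) k →ₐ[k] A) ∧
        (aeval (fun i => x i ^ e) : MvPolynomial (Fin l) k →ₐ[k] A).toRingHom.IsIntegral := by
    intro A _ _ l x e he hinj hfin
    have hc : (aeval (fun i => x i ^ e) : MvPolynomial (Fin l) k →ₐ[k] A) = (aeval x).comp (expand e) :=
      MvPolynomial.algHom_ext fun i => by simp
    refine ⟨?_, ?_⟩
    · rw [hc]; exact hinj.comp (expand_injective he)
    · rw [hc]
      show ((aeval x : MvPolynomial (Fin l) k →ₐ[k] A).toRingHom.comp (expand e).toRingHom).IsIntegral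
      refine RingHom.IsIntegral.trans _ _ ?_ (RingHom.Finite.to_isIntegral hfin)
      intro p
      induction p using MvPolynomial.induction_on with
      | C a =>
        have := (expand (R := k) (σ := Fin l) e).toRingHom.isIntegralElem_map (x := C a)
        simpa using this
      | add p q hp hq => exact RingHom.IsIntegralElem.add _ hp hq
      | mul_X p i hp =>
        refine RingHom.IsIntegralElem.mul _ hp ⟨Polynomial.X ^ e - Polynomial.C (X i),
          Polynomial.monic_X_pow_sub_C _ he.ne', ?_⟩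
        rw [Polynomial.eval₂_sub, Polynomial.eval₂_X_pow, Polynomial.eval₂_C]
        simp
  obtain ⟨hyinj, hyint⟩ := key y₁ Dz hDz hy₁inj hy₁fin
  obtain ⟨hzinj, hzint⟩ := key z₁ Dy hDy hz₁inj hz₁fin
  let P := MvPolynomial (Fin (r + 1) ⊕ Fin (s + 1)) k
  let Φ : P →ₐ[k] R ⊗[k] S := aeval (Sum.elim (fun i => y i ⊗ₜ[k] (1 : S)) (fun j => (1 : R) ⊗ₜ[k] z j))
  let φR : MvPolynomial (Fin (r + 1)) k →ₐ[k] R := aeval y
  let φS : MvPolynomial (Fin (s + 1)) k →ₐ[k] S := aeval z
  have hΦinj : Function.Injective Φ := by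
    let e : P →ₐ[k] MvPolynomial (Fin (r + 1)) k ⊗[k] MvPolynomial (Fin (s + 1)) k :=
      aeval (Sum.elim (fun i => X i ⊗ₜ[k] 1) (fun j => 1 ⊗ₜ[k] X j))
    let e' : MvPolynomial (Fin (r + 1)) k ⊗[k] MvPolynomial (Fin (s + 1)) k →ₐ[k] P :=
      Algebra.TensorProduct.lift (rename Sum.inl) (rename Sum.inr) fun _ _ => Commute.all _ _
    have hee : e'.comp e = AlgHom.id k P := MvPolynomial.algHom_ext fun x => by
      rcases x with i | j <;> simp [e, e', P, rename_X]
    have hΦ : Φ = (Algebra.TensorProduct.map φR φS).comp e := MvPolynomial.algHom_ext fun x => by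
      rcases x with i | j <;> simp [e, Φ, φR, φS]
    rw [hΦ, AlgHom.coe_comp]
    refine Function.Injective.comp ?_ (Function.LeftInverse.injective (g := e') fun x => AlgHom.congr_fun hee x)
    have : ⇑(Algebra.TensorProduct.map φR φS) =
        (φR.toLinearMap.rTensor S) ∘ (φS.toLinearMap.lTensor (MvPolynomial (Fin (r + 1)) k)) := by
      rw [← LinearMap.coe_comp, LinearMap.rTensor_comp_lTensor]
      rfl
    rw [this]
    exact (Module.Flat.rTensor_preserves_injective_linearMap φR.toLinearMap hyinj).comp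
      (Module.Flat.lTensor_preserves_injective_linearMap φS.toLinearMap hzinj)
  have hint : ∀ w : R ⊗[k] S, Φ.toRingHom.IsIntegralElem w := by
    intro w
    induction w using TensorProduct.induction_on with
    | zero => exact RingHom.isIntegralElem_zero _
    | add a b ha hb => exact RingHom.IsIntegralElem.add _ ha hb
    | tmul a b =>
      rw [show a ⊗ₜ[k] b = (a ⊗ₜ[k] (1 : S)) * ((1 : R) ⊗ₜ[k] b) by simp]
      refine RingHom.IsIntegralElem.mul _ ?_ ?_
      · obtain ⟨p, hp, hpa⟩ := hyint a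
        refine ⟨p.map (rename Sum.inl).toRingHom, hp.map _, ?_⟩
        have hc : Φ.comp (rename Sum.inl) = (Algebra.TensorProduct.includeLeft : R →ₐ[k] R ⊗[k] S).comp φR :=
          MvPolynomial.algHom_ext fun i => by simp [Φ, φR, P, rename_X]
        rw [Polynomial.eval₂_map]
        have h := congrArg (Algebra.TensorProduct.includeLeft : R →ₐ[k] R ⊗[k] S) hpa
        rw [map_zero] at h
        rw [← h]
        show _ = (Algebra.TensorProduct.includeLeft : R →ₐ[k] R ⊗[k] S).toRingHom (p.eval₂ _ a)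
        rw [Polynomial.hom_eval₂]
        congr 1
        exact congrArg AlgHom.toRingHom hc
      · obtain ⟨p, hp, hpa⟩ := hzint b
        refine ⟨p.map (rename Sum.inr).toRingHom, hp.map _, ?_⟩
        have hc : Φ.comp (rename Sum.inr) = (Algebra.TensorProduct.includeRight : S →ₐ[k] R ⊗[k] S).comp φS :=
          MvPolynomial.algHom_ext fun i => by simp [Φ, φS, P, rename_X]
        rw [Polynomial.eval₂_map]
        have h := congrArg (Algebra.TensorProduct.includeRight : S →ₐ[k] R ⊗[k] S) hpa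
        rw [map_zero] at h
        rw [← h]
        show _ = (Algebra.TensorProduct.includeRight : S →ₐ[k] R ⊗[k] S).toRingHom (p.eval₂ _ b)
        rw [Polynomial.hom_eval₂]
        congr 1
        exact congrArg AlgHom.toRingHom hc
  -- the balanced part
  have hmono : ∀ (e : (Fin (r + 1) ⊕ Fin (s + 1)) →₀ ℕ) (c : k),
      Φ (monomial e c) = (c • ∏ i, y i ^ e (Sum.inl i)) ⊗ₜ[k] ∏ j, z j ^ e (Sum.inr j) := by
    intro e c
    rw [aeval_monomial, Finsupp.prod_fintype _ _ fun x => by simp, Fintype.prod_sum_type]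
    simp only [Sum.elim_inl, Sum.elim_inr, Algebra.TensorProduct.tmul_pow, one_pow]
    rw [show (∏ i, (y i ^ e (Sum.inl i)) ⊗ₜ[k] (1 : S)) = (∏ i, y i ^ e (Sum.inl i)) ⊗ₜ[k] (1 : S) from
        (map_prod (Algebra.TensorProduct.includeLeft : R →ₐ[k] R ⊗[k] S) _ _).symm,
      show (∏ j, (1 : R) ⊗ₜ[k] (z j ^ e (Sum.inr j))) = (1 : R) ⊗ₜ[k] ∏ j, z j ^ e (Sum.inr j) from
        (map_prod (Algebra.TensorProduct.includeRight : S →ₐ[k] R ⊗[k] S) _ _).symm,
      Algebra.TensorProduct.tmul_mul_tmul, mul_one, one_mul, ← Algebra.smul_def, TensorProduct.smul_tmul']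
  have hproj : ∀ (c : P) (a : ℤ), ∃ g ∈ model k r s, biproj 𝒜 ℬ a a (Φ c) = Φ g := by
    intro c a
    induction c using MvPolynomial.induction_on' with
    | add p q hp hq =>
      obtain ⟨g₁, hg₁, e₁⟩ := hp
      obtain ⟨g₂, hg₂, e₂⟩ := hq
      exact ⟨g₁ + g₂, add_mem hg₁ hg₂, by rw [map_add, map_add, map_add, e₁, e₂]⟩
    | monomial e c =>
      rw [hmono, biproj_of_mem 𝒜 ℬ (Submodule.smul_mem _ c (prod_pow_mem 𝒜 D y hy _)) (prod_pow_mem ℬ D z hz _)]
      split_ifs with h
      · refine ⟨monomial e c, ?_, (hmono e c).symm⟩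
        have h' : D * ∑ i, e (Sum.inl i) = D * ∑ j, e (Sum.inr j) := by exact_mod_cast h.1.trans h.2.symm
        rw [show monomial e c = c • monomial e (1 : k) by rw [smul_monomial, smul_eq_mul, mul_one]]
        exact Subalgebra.smul_mem _ (monomial_mem_model _ e rfl (Nat.eq_of_mul_eq_mul_left hD h').symm) _
      · exact ⟨0, zero_mem _, (map_zero Φ).symm⟩
  have hgen : ∀ u : model k r s, Φ u ∈ ψ.range := by
    have : model k r s ≤ ψ.range.comap Φ := by
      refine Algebra.adjoin_le ?_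
      rintro _ ⟨⟨i, j⟩, rfl⟩
      show Φ (X (Sum.inl i) * X (Sum.inr j)) ∈ ψ.range
      have hmem : y i ⊗ₜ[k] z j ∈ (𝒯 (D : ℤ)).map ψ.toLinearMap := by
        rw [hdegT]; exact Submodule.subset_span ⟨_, hy i, _, hz j, rfl⟩
      obtain ⟨t, -, ht⟩ := hmem
      refine ⟨t, ht.trans ?_⟩
      rw [map_mul]
      simp [Φ, P, MvPolynomial.aeval_X]
    exact fun u => this u.2
  let ι : model k r s →ₐ[k] T :=
    (AlgEquiv.ofInjective ψ hψ).symm.toAlgHom.comp ((Φ.comp (model k r s).val).codRestrict ψ.range hgen)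
  have hψι : ∀ u, ψ (ι u) = Φ u := fun u =>
    congrArg Subtype.val ((AlgEquiv.ofInjective ψ hψ).apply_symm_apply _)
  have hιinj : Function.Injective ι := fun u u' h =>
    Subtype.ext (hΦinj ((hψι u).symm.trans ((congrArg ψ h).trans (hψι u'))))
  letI := ι.toRingHom.toAlgebra
  haveI : Algebra.IsIntegral (model k r s) T := by
    constructor
    intro t
    rw [← DirectSum.sum_support_decompose 𝒯 t]
    refine IsIntegral.sum _ fun n _ => ?_
    generalize ht : (decompose 𝒯 t n : T) = v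
    have hv : v ∈ 𝒯 n := ht ▸ (decompose 𝒯 t n).2
    clear ht
    obtain ⟨p, hp, hpe⟩ := hint (ψ v)
    let N := p.natDegree
    choose g hg hge using fun i : ℕ => hproj (p.coeff i) (((N : ℤ) - i) * n)
    let q : Polynomial (model k r s) :=
      Polynomial.X ^ N + ∑ i ∈ Finset.range N, Polynomial.C ⟨g i, hg i⟩ * Polynomial.X ^ i
    have hq : q.Monic := Polynomial.monic_X_pow_add <| lt_of_le_of_lt (Polynomial.degree_sum_le _ _) <|
      (Finset.sup_lt_iff (WithBot.bot_lt_coe N)).mpr fun i hi =>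
        lt_of_le_of_lt (Polynomial.degree_C_mul_X_pow_le _ _) (WithBot.coe_lt_coe.mpr (Finset.mem_range.mp hi))
    refine ⟨q, hq, hψ ?_⟩
    have hpw : ∀ i : ℕ, ψ v ^ i ∈ Submodule.span k {x : R ⊗[k] S | ∃ a ∈ 𝒜 ((i : ℤ) * n), ∃ b ∈ ℬ ((i : ℤ) * n), x = a ⊗ₜ[k] b} := by
      intro i
      rw [← hdegT, ← map_pow]
      refine ⟨v ^ i, ?_, rfl⟩
      have := SetLike.pow_mem_graded (A := 𝒯) i hv
      rwa [nsmul_eq_mul] at this
    have hshift : ∀ i : ℕ, biproj 𝒜 ℬ ((N : ℤ) * n) ((N : ℤ) * n) (Φ (p.coeff i) * ψ v ^ i) =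
        Φ (g i) * ψ v ^ i := by
      intro i
      rw [← hge, ← biproj_mul_piece 𝒜 ℬ (hpw i)]
      congr 2 <;> ring
    have hlead : biproj 𝒜 ℬ ((N : ℤ) * n) ((N : ℤ) * n) (ψ v ^ N) = ψ v ^ N := by
      have h1 : biproj 𝒜 ℬ (0 : ℤ) 0 (1 : R ⊗[k] S) = 1 := by
        rw [Algebra.TensorProduct.one_def, biproj_of_mem 𝒜 ℬ SetLike.GradedOne.one_mem SetLike.GradedOne.one_mem]
        simp
      have := biproj_mul_piece 𝒜 ℬ (hpw N) 0 0 1
      rwa [zero_add, one_mul, h1, one_mul] at this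
    have h0 := congrArg (biproj 𝒜 ℬ ((N : ℤ) * n) ((N : ℤ) * n)) hpe
    rw [Polynomial.eval₂_eq_sum_range, Finset.sum_range_succ, map_add, map_sum, map_zero] at h0
    have hlc : p.coeff N = 1 := hp
    rw [hlc, map_one, one_mul, hlead] at h0
    rw [map_zero, ← h0]
    simp only [q, Polynomial.eval₂_add, Polynomial.eval₂_X_pow, Polynomial.eval₂_finsetSum,
      Polynomial.eval₂_mul, Polynomial.eval₂_C, map_add, map_sum, map_mul, map_pow]
    rw [add_comm]
    congr 1
    refine Finset.sum_congr rfl fun i _ => ?_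
    rw [show ψ (algebraMap (model k r s) T ⟨g i, hg i⟩) = Φ (g i) from hψι ⟨g i, hg i⟩]
    exact (hshift i).symm
  rw [← DimLib.ringKrullDim_eq_of_isIntegral (R := model k r s) (S := T) hιinj, ringKrullDim_model]

end Groth.Agent.SegreDim
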