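import Groth.Agent.SegreDim.SupportDim
import Groth.Agent.SegreDim.CMUnmixed
import Groth.Agent.CAlgMisc2.TorsionFree

/-!
# Faithful elements of tensor products of unmixed modules
-/

set_option autoImplicit false
universe u

open TensorProduct MvPolynomial

namespace Groth.Agent.SegreDim

variable {k : Type u} [Field k] {R : Type u} [CommRing R] [Algebra k R] [Algebra.FiniteType k R]
  {M : Type u} [AddCommGroup M] [Module R M] [Module.Finite R M]

/-- unmixed modules have no torsion over parameters -/
theorem eq_zero_of_aeval_smul {l : ℕ} (y : Fin l → R)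
    (hass : ∀ p ∈ associatedPrimes R M, ringKrullDim (R ⧸ p) = (l : WithBot ℕ∞))
    (hint : ((Ideal.Quotient.mkₐ k (Module.annihilator R M)).comp (aeval y)).toRingHom.IsIntegral)
    {q : MvPolynomial (Fin l) k} (hq : q ≠ 0) {m : M} (hm : aeval y q • m = 0) : m = 0 := by
  haveI : IsNoetherianRing R := Algebra.FiniteType.isNoetherianRing k R
  by_contra hne
  have : aeval y q ∈ ⋃ p ∈ associatedPrimes R M, (p : Set R) := by
    rw [biUnion_associatedPrimes_eq_zero_divisors]
    exact ⟨m, hne, hm⟩
  obtain ⟨p, hp, hqp⟩ := Set.mem_iUnion₂.mp this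
  haveI := IsAssociatedPrime.isPrime hp
  let g : MvPolynomial (Fin l) k →ₐ[k] R ⧸ p := (Ideal.Quotient.mkₐ k p).comp (aeval y)
  have hJp : Module.annihilator R M ≤ p :=
    le_trans (by rw [Submodule.annihilator_top]) (IsAssociatedPrime.annihilator_le hp)
  have hg : g.toRingHom.IsIntegral := by
    have h2 := RingHom.IsIntegral.trans _ _ hint
      (RingHom.IsIntegral.of_finite (RingHom.Finite.of_surjective (Ideal.Quotient.factor hJp)
        (Ideal.Quotient.factor_surjective hJp)))
    have e : g.toRingHom = (Ideal.Quotient.factor hJp).comp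
        ((Ideal.Quotient.mkₐ k (Module.annihilator R M)).comp (aeval y)).toRingHom :=
      RingHom.ext fun a => (Ideal.Quotient.factor_mk hJp (aeval y a)).symm
    rw [e]
    exact h2
  let κ := RingHom.kerLift g.toRingHom
  have hκ : κ.IsIntegral := RingHom.IsIntegral.tower_top (Ideal.Quotient.mk _) κ
    (by rw [show κ.comp (Ideal.Quotient.mk _) = g.toRingHom from RingHom.ext fun a => rfl]; exact hg)
  letI := κ.toAlgebra
  haveI : Algebra.IsIntegral (MvPolynomial (Fin l) k ⧸ RingHom.ker g.toRingHom) (R ⧸ p) := ⟨hκ⟩
  have h1 := DimLib.ringKrullDim_eq_of_isIntegral (R := MvPolynomial (Fin l) k ⧸ RingHom.ker g.toRingHom)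
    (S := R ⧸ p) (RingHom.kerLift_injective g.toRingHom)
  rw [hass p hp] at h1
  have h2 := ringKrullDim_quotient_add_one_le (R := MvPolynomial (Fin l) k) (I := ⊥)
    (J := RingHom.ker g.toRingHom) bot_le fun P hP hle => hq (by
      have hP' : P ∈ minimalPrimes (MvPolynomial (Fin l) k) := hP
      rw [IsDomain.minimalPrimes_eq_singleton_bot, Set.mem_singleton_iff] at hP'
      subst hP'
      refine Ideal.mem_bot.mp (hle ?_)
      show g q = 0
      exact Ideal.Quotient.eq_zero_iff_mem.mpr hqp)
  rw [h1, ringKrullDim_eq_of_ringEquiv (RingEquiv.quotientBot _),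
    MvPolynomial.ringKrullDim_of_isNoetherianRing, ringKrullDim_eq_zero_of_field, zero_add, Nat.card_fin] at h2
  have h3 : ((l + 1 : ℕ) : WithBot ℕ∞) ≤ ((l : ℕ) : WithBot ℕ∞) := by exact_mod_cast h2
  have h4 : l + 1 ≤ l := by exact_mod_cast h3
  omega

/-- coordinates of a module without torsion over parameters -/
theorem exists_coords [Module k M] [IsScalarTower k R M] {l : ℕ} (y : Fin l → R)
    (hint : ((Ideal.Quotient.mkₐ k (Module.annihilator R M)).comp (aeval y)).toRingHom.IsIntegral)
    (htf : ∀ (q : MvPolynomial (Fin l) k) (m : M), q ≠ 0 → aeval y q • m = 0 → m = 0) :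
    ∃ (n : ℕ) (f : M →ₗ[k] (Fin n → MvPolynomial (Fin l) k)), Function.Injective f ∧
      ∀ (q : MvPolynomial (Fin l) k) (m : M) (i : Fin n), f (aeval y q • m) i = q * f m i := by
  let A := MvPolynomial (Fin l) k
  let J := Module.annihilator R M
  let hT : Module.IsTorsionBySet R M (J : Set R) := fun m r => Module.mem_annihilator.mp r.2 m
  letI : Module (R ⧸ J) M := hT.module
  haveI : Module.Finite (R ⧸ J) M := Module.Finite.of_restrictScalars_finite R _ _
  letI : Module A M := Module.compHom M (aeval (R := k) y).toRingHom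
  let χ : A →+* R ⧸ J := ((Ideal.Quotient.mkₐ k J).comp (aeval y)).toRingHom
  letI : Algebra A (R ⧸ J) := χ.toAlgebra
  haveI : IsScalarTower A (R ⧸ J) M := IsScalarTower.of_algebraMap_smul fun a m => rfl
  haveI : Module.Finite A (R ⧸ J) := by
    have hft : χ.FiniteType := by
      refine RingHom.FiniteType.of_comp_finiteType (f := algebraMap k A) ?_
      rw [show χ.comp (algebraMap k A) = algebraMap k (R ⧸ J) from
        ((Ideal.Quotient.mkₐ k J).comp (aeval y)).comp_algebraMap]
      exact RingHom.finiteType_algebraMap.mpr inferInstance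
    exact RingHom.IsIntegral.to_finite hint hft
  haveI : Module.Finite A M := Module.Finite.trans (R ⧸ J) M
  haveI : IsScalarTower k A M := IsScalarTower.of_algebraMap_smul fun c m => by
    show aeval y (algebraMap k A c) • m = c • m
    rw [AlgHom.commutes, algebraMap_smul]
  haveI : Module.IsTorsionFree A M := Module.IsTorsionFree.of_smul_eq_zero fun a m h =>
    (em (a = 0)).imp_right fun ha => htf a m ha h
  obtain ⟨n, f, hf⟩ := CAlgMisc2.exists_injective_pi (R := A) (M := M)
  exact ⟨n, f.restrictScalars k, hf, fun q m i => congrFun (f.map_smul q m) i⟩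

end Groth.Agent.SegreDim

namespace Groth.Agent.SegreDim

variable {k : Type u} [Field k] {R : Type u} [CommRing R] [Algebra k R]
  {M : Type u} [AddCommGroup M] [Module R M] [Module k M] [IsScalarTower k R M]
  {S : Type u} [CommRing S] [Algebra k S]
  {N : Type u} [AddCommGroup N] [Module S N] [Module k N] [IsScalarTower k S N]

/-- polynomials in the parameters act without torsion on the tensor product -/
theorem eq_zero_of_act_eq_zero {a b na nb : ℕ} (y : Fin a → R) (z : Fin b → S)
    (f : M →ₗ[k] (Fin na → MvPolynomial (Fin a) k)) (hf : Function.Injective f)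
    (hfq : ∀ (q : MvPolynomial (Fin a) k) (m : M) (i : Fin na), f (aeval y q • m) i = q * f m i)
    (g : N →ₗ[k] (Fin nb → MvPolynomial (Fin b) k)) (hg : Function.Injective g)
    (hgq : ∀ (q : MvPolynomial (Fin b) k) (m : N) (i : Fin nb), g (aeval z q • m) i = q * g m i)
    {w : M ⊗[k] N} (hw : w ≠ 0) {c : MvPolynomial (Fin a ⊕ Fin b) k}
    (hc : GrSeg.act k R S M N (aeval (Sum.elim (fun i => y i ⊗ₜ[k] (1 : S))
      (fun j => (1 : R) ⊗ₜ[k] z j)) c) w = 0) : c = 0 := by
  classical
  let e' : MvPolynomial (Fin a) k ⊗[k] MvPolynomial (Fin b) k →ₐ[k] MvPolynomial (Fin a ⊕ Fin b) k :=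
    Algebra.TensorProduct.lift (rename Sum.inl) (rename Sum.inr) fun _ _ => Commute.all _ _
  let e : MvPolynomial (Fin a ⊕ Fin b) k →ₐ[k] MvPolynomial (Fin a) k ⊗[k] MvPolynomial (Fin b) k :=
    aeval (Sum.elim (fun i => X i ⊗ₜ[k] 1) (fun j => 1 ⊗ₜ[k] X j))
  have hee : e.comp e' = AlgHom.id k _ := by
    refine Algebra.TensorProduct.ext (MvPolynomial.algHom_ext fun i => ?_) (MvPolynomial.algHom_ext fun i => ?_)
    · simp [e, e', rename_X]
    · simp [e, e', rename_X]
  have he' : Function.Injective e' := Function.LeftInverse.injective (g := e) fun x => AlgHom.congr_fun hee x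
  have hij : ∃ i j, TensorProduct.map ((LinearMap.proj i).comp f) ((LinearMap.proj j).comp g) w ≠ 0 := by
    by_contra hcon
    simp only [not_exists, not_not] at hcon
    apply hw
    have hmap : Function.Injective (TensorProduct.map f g) := by
      rw [← LinearMap.rTensor_comp_lTensor, LinearMap.coe_comp]
      exact (Module.Flat.rTensor_preserves_injective_linearMap f hf).comp
        (Module.Flat.lTensor_preserves_injective_linearMap g hg)
    apply hmap
    rw [map_zero]
    have key : ∀ v : M ⊗[k] N, TensorProduct.map f g v = ∑ i, ∑ j,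
        TensorProduct.map (LinearMap.single k (fun _ => MvPolynomial (Fin a) k) i)
          (LinearMap.single k (fun _ => MvPolynomial (Fin b) k) j)
          (TensorProduct.map ((LinearMap.proj i).comp f) ((LinearMap.proj j).comp g) v) := by
      intro v
      induction v using TensorProduct.induction_on with
      | zero => simp
      | add p q hp hq => simp only [map_add, hp, hq, Finset.sum_add_distrib]
      | tmul m n =>
        simp only [TensorProduct.map_tmul, LinearMap.comp_apply, LinearMap.proj_apply, LinearMap.coe_single]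
        simp only [← tmul_sum, ← sum_tmul, Finset.univ_sum_single]
    rw [key]
    simp [hcon]
  obtain ⟨i, j, hne⟩ := hij
  let h : M ⊗[k] N →ₗ[k] MvPolynomial (Fin a ⊕ Fin b) k :=
    e'.toLinearMap.comp (TensorProduct.map ((LinearMap.proj i).comp f) ((LinearMap.proj j).comp g))
  have hgen : ∀ (x : R ⊗[k] S) (u : MvPolynomial (Fin a ⊕ Fin b) k),
      (∀ v, h (GrSeg.act k R S M N x v) = u * h v) → ∀ t : Fin a ⊕ Fin b, ∀ v,
      h (GrSeg.act k R S M N (x * Sum.elim (fun i => y i ⊗ₜ[k] (1 : S)) (fun j => (1 : R) ⊗ₜ[k] z j) t) v) =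
        u * X t * h v := by
    intro x u hxu t v
    rw [act_mul, hxu, mul_assoc]
    congr 1
    induction v using TensorProduct.induction_on with
    | zero => simp
    | add p q hp hq => simp only [map_add, hp, hq, mul_add]
    | tmul m n =>
      rcases t with t | t
      · simp only [Sum.elim_inl, GrSeg.act_tmul, one_smul]
        simp only [h, LinearMap.comp_apply, TensorProduct.map_tmul, LinearMap.proj_apply,
          AlgHom.toLinearMap_apply]
        rw [← aeval_X (R := k) y t, hfq, Algebra.TensorProduct.lift_tmul, Algebra.TensorProduct.lift_tmul,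
          map_mul, rename_X, mul_assoc]
      · simp only [Sum.elim_inr, GrSeg.act_tmul, one_smul]
        simp only [h, LinearMap.comp_apply, TensorProduct.map_tmul, LinearMap.proj_apply,
          AlgHom.toLinearMap_apply]
        rw [← aeval_X (R := k) z t, hgq, Algebra.TensorProduct.lift_tmul, Algebra.TensorProduct.lift_tmul,
          map_mul, rename_X, mul_left_comm]
  have hlin : ∀ (u : MvPolynomial (Fin a ⊕ Fin b) k) (v : M ⊗[k] N),
      h (GrSeg.act k R S M N (aeval (Sum.elim (fun i => y i ⊗ₜ[k] (1 : S))
        (fun j => (1 : R) ⊗ₜ[k] z j)) u) v) = u * h v := by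
    intro u
    induction u using MvPolynomial.induction_on with
    | C c =>
      intro v
      rw [aeval_C, Algebra.algebraMap_eq_smul_one, map_smul, LinearMap.smul_apply, act_one, map_smul,
        Algebra.smul_def, MvPolynomial.algebraMap_eq]
    | add p q hp hq => intro v; simp only [map_add, LinearMap.add_apply, hp, hq, add_mul]
    | mul_X p t hp => intro v; rw [map_mul, aeval_X]; exact hgen _ _ hp t v
  have h0 := hlin c w
  rw [hc, map_zero] at h0
  refine (mul_eq_zero.mp h0.symm).resolve_right fun hh => hne (he' ?_)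
  rw [map_zero]
  exact hh

end Groth.Agent.SegreDim
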