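import Mathlib.Algebra.Polynomial.AlgebraMap
import Mathlib.RingTheory.Ideal.Quotient.Operations
import Groth.Agent.SegreDim.CMUnmixed
import Groth.Agent.SegreDim.Segre
import Groth.Agent.CAlgH3.CMPolynomial
import Groth.Agent.CAlgH3.CMRing
import Groth.Agent.W4Gr15.GradedVertex

/-!
# Standard graded algebras of dimension one; finite generation
-/

set_option autoImplicit false
universe u

open DirectSum TensorProduct

namespace Groth.Agent.SegreDim

variable {k : Type u} [Field k] {R : Type u} [CommRing R] [Algebra k R] (𝒜 : ℤ → Submodule k R)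
  [GradedAlgebra 𝒜] (hpos : ∀ n : ℤ, n < 0 → 𝒜 n = ⊥) (h0 : 𝒜 0 = Submodule.span k {(1 : R)})

include hpos h0 in
theorem finiteType_of_isNoetherianRing [IsNoetherianRing R] : Algebra.FiniteType k R := by
  classical
  obtain ⟨G, hG, hspan⟩ := (Submodule.fg_span_iff_fg_span_finset_subset (⋃ n ∈ Set.Ioi (0 : ℤ), (𝒜 n : Set R))).mp
    (IsNoetherian.noetherian (irr 𝒜))
  refine ⟨⟨G, ?_⟩⟩
  have key : ∀ N : ℕ, ∀ n : ℤ, n < N → ∀ a ∈ 𝒜 n, a ∈ Algebra.adjoin k (G : Set R) := by
    intro N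
    induction N with
    | zero =>
      intro n hn a ha
      rw [eq_zero_of_neg 𝒜 hpos (by simpa using hn) ha]
      exact zero_mem _
    | succ N ih =>
      intro n hn a ha
      rcases lt_trichotomy n 0 with h | h | h
      · rw [eq_zero_of_neg 𝒜 hpos h ha]; exact zero_mem _
      · subst h
        obtain ⟨c, rfl⟩ := exists_scalar 𝒜 h0 ha
        exact Subalgebra.algebraMap_mem _ c
      · have haG : a ∈ Submodule.span R (G : Set R) := by
          rw [← hspan]; exact mem_irr_of_mem 𝒜 h ha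
        obtain ⟨f, -, hf⟩ := Submodule.mem_span_finset.mp haG
        rw [← DirectSum.decompose_of_mem_same 𝒜 ha, ← hf, decompose_sum, DFinsupp.finsetSum_apply,
          AddSubmonoidClass.coe_finsetSum]
        refine Subalgebra.sum_mem _ fun g hg => ?_
        obtain ⟨d, hd, hgd⟩ : ∃ d, d ∈ Set.Ioi (0 : ℤ) ∧ g ∈ 𝒜 d := by simpa using hG hg
        rw [Set.mem_Ioi] at hd
        have := DirectSum.coe_decompose_mul_add_of_right_mem 𝒜 (i := n - d) (a := f g) hgd
        rw [sub_add_cancel] at this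
        rw [smul_eq_mul, this]
        exact Subalgebra.mul_mem _ (ih (n - d) (by push_cast at hn; omega) _ (decompose 𝒜 (f g) (n - d)).2)
          (Algebra.subset_adjoin hg)
  rw [eq_top_iff]
  intro a _
  rw [← DirectSum.sum_support_decompose 𝒜 a]
  exact Subalgebra.sum_mem _ fun n _ => key (n.toNat + 1) n (by omega) _ (decompose 𝒜 a n).2

variable (hstd : Ideal.span (⋃ n ∈ Set.Ioi (0 : ℤ), (𝒜 n : Set R)) = Ideal.span ((𝒜 1 : Submodule k R) : Set R))

include hstd in
/-- each piece of a standard graded algebra is spanned by products with linear forms -/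
theorem piece_succ_le {n : ℤ} (hn : 0 ≤ n) {a : R} (ha : a ∈ 𝒜 (n + 1)) :
    a ∈ Submodule.span k {x : R | ∃ p ∈ 𝒜 n, ∃ q ∈ 𝒜 1, x = p * q} := by
  classical
  have hmem : a ∈ Submodule.span R ((𝒜 1 : Submodule k R) : Set R) := by
    have h : a ∈ irr 𝒜 := mem_irr_of_mem 𝒜 (by omega) ha
    rw [irr, hstd] at h
    exact h
  have key : ∀ x ∈ Submodule.span R ((𝒜 1 : Submodule k R) : Set R), ∀ r : R,
      (decompose 𝒜 (r * x) (n + 1) : R) ∈ Submodule.span k {x : R | ∃ p ∈ 𝒜 n, ∃ q ∈ 𝒜 1, x = p * q} := by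
    intro x hx
    induction hx using Submodule.span_induction with
    | mem x hx =>
      intro r
      exact Submodule.subset_span ⟨_, (decompose 𝒜 r n).2, x, hx,
        DirectSum.coe_decompose_mul_add_of_right_mem 𝒜 hx⟩
    | zero => intro r; simp
    | add x y _ _ hx hy =>
      intro r
      rw [mul_add, decompose_add, DirectSum.add_apply, Submodule.coe_add]
      exact add_mem (hx r) (hy r)
    | smul s x _ hx => intro r; rw [smul_eq_mul, ← mul_assoc]; exact hx (r * s)
  simpa [DirectSum.decompose_of_mem_same 𝒜 ha] using key a hmem 1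

include hpos h0 hstd in
/-- a one-dimensional linear piece generated by a regular element: polynomial ring -/
theorem pieces_eq_of_linear {x : R} (hx : x ∈ 𝒜 1) (h1 : 𝒜 1 ≤ Submodule.span k {x}) :
    ∀ n : ℕ, 𝒜 (n : ℤ) ≤ Submodule.span k {x ^ n} := by
  intro n
  induction n with
  | zero => simp [h0]
  | succ n ih =>
    intro a ha
    refine Submodule.span_le.mpr ?_ (piece_succ_le 𝒜 hstd (n := n) (by omega) (by simpa using ha))
    rintro _ ⟨p, hp, q, hq, rfl⟩
    obtain ⟨c, rfl⟩ := Submodule.mem_span_singleton.mp (ih hp)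
    obtain ⟨d, rfl⟩ := Submodule.mem_span_singleton.mp (h1 hq)
    exact Submodule.mem_span_singleton.mpr ⟨c * d, by rw [pow_succ, smul_mul_smul_comm]⟩

include hpos h0 hstd in
theorem nonempty_equiv_polynomial [Nontrivial R] {x : R} (hx : x ∈ 𝒜 1) (h1 : 𝒜 1 ≤ Submodule.span k {x})
    (hreg : x ∈ nonZeroDivisors R) : Nonempty (R ≃ₐ[k] Polynomial k) := by
  classical
  let f : Polynomial k →ₐ[k] R := Polynomial.aeval x
  have hpw : ∀ i : ℕ, x ^ i ∈ 𝒜 (i : ℤ) := fun i => by
    have := SetLike.pow_mem_graded (A := 𝒜) i hx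
    simpa [nsmul_eq_mul] using this
  refine ⟨(AlgEquiv.ofBijective f ⟨?_, ?_⟩).symm⟩
  · rw [injective_iff_map_eq_zero]
    intro p hp
    ext i
    rw [Polynomial.coeff_zero]
    by_contra hc
    have h := congrArg (GradedRing.proj 𝒜 (i : ℤ)) hp
    simp only [f, Polynomial.aeval_eq_sum_range, map_sum, map_zero, GradedRing.proj_apply] at h
    rw [Finset.sum_eq_single i
      (fun j _ hji => DirectSum.decompose_of_mem_ne 𝒜 (Submodule.smul_mem _ _ (hpw j))
        (Int.ofNat_inj.not.mpr hji))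
      (fun hi => absurd (Polynomial.coeff_eq_zero_of_natDegree_lt (p := p) (n := i)
        (by rw [Finset.mem_range] at hi; omega)) hc),
      DirectSum.decompose_of_mem_same 𝒜 (Submodule.smul_mem _ _ (hpw i)), Algebra.smul_def,
      mul_right_mem_nonZeroDivisors_eq_zero_iff (pow_mem hreg i)] at h
    exact hc ((map_eq_zero _).mp h)
  · intro a
    show a ∈ f.range
    rw [← DirectSum.sum_support_decompose 𝒜 a]
    refine Subalgebra.sum_mem _ fun n _ => ?_
    rcases lt_or_ge n 0 with h | h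
    · rw [eq_zero_of_neg 𝒜 hpos h (decompose 𝒜 a n).2]; exact zero_mem _
    · obtain ⟨m, rfl⟩ := Int.eq_ofNat_of_zero_le h
      obtain ⟨c, hc⟩ := Submodule.mem_span_singleton.mp
        (pieces_eq_of_linear 𝒜 hpos h0 hstd hx h1 m (decompose 𝒜 a (m : ℤ)).2)
      rw [← hc]
      exact ⟨c • Polynomial.X ^ m, by simp [f]⟩

include hpos h0 in
/-- Cohen–Macaulay graded algebras of positive dimension have homogeneous regular elements -/
theorem exists_regular_homogeneous [Algebra.FiniteType k R] [LocCoh.IsCohenMacaulayRing R]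
    (hdim : 1 ≤ ringKrullDim R) :
    ∃ (D : ℕ) (y : R), 0 < D ∧ y ∈ 𝒜 (D : ℤ) ∧ y ∈ nonZeroDivisors R := by
  classical
  haveI : IsNoetherianRing R := Algebra.FiniteType.isNoetherianRing k R
  haveI : Nontrivial R := by
    by_contra h
    rw [not_nontrivial_iff_subsingleton] at h
    rw [ringKrullDim_eq_bot_of_subsingleton] at hdim
    simp at hdim
  have hcm : ∀ (q : Ideal R) [q.IsPrime], Subsingleton (LocalizedModule q.primeCompl R) ∨
      LocCoh.IsCohenMacaulayModule (Localization.AtPrime q) (LocalizedModule q.primeCompl R) := fun q _ => by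
    refine Or.inr ?_
    haveI := LocCoh.IsCohenMacaulayRing.isCohenMacaulayLocalRing_localization (R := R) q
    rw [CAlgH3.isCohenMacaulayModule_congr (CAlgH3.localizedModuleSelf q), ← CAlgH3.isCohenMacaulayLocalRing_iff]
    infer_instance
  obtain ⟨D, y, hD, hy, hav⟩ := exists_avoid 𝒜 hpos (associatedPrimes.finite R R).toFinset fun p hp => by
    rw [Set.Finite.mem_toFinset] at hp
    refine ⟨IsAssociatedPrime.isPrime hp, isHomogeneous_of_mem_associatedPrimes 𝒜 𝒜 hp, fun hle => ?_⟩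
    have h1 := ringKrullDim_quotient_eq_supportDim_of_cm 𝒜 hpos h0 𝒜 hcm hp
    rw [Module.supportDim_self_eq_ringKrullDim] at h1
    haveI hm := irr_isMaximal 𝒜 hpos h0
    obtain rfl := hm.eq_of_le (IsAssociatedPrime.isPrime hp).ne_top hle
    letI := Ideal.Quotient.field (irr 𝒜)
    rw [ringKrullDim_eq_zero_of_field] at h1
    rw [← h1] at hdim
    exact absurd hdim (not_le.mpr zero_lt_one)
  refine ⟨D, y, hD, hy, mem_nonZeroDivisors_iff_right.mpr fun z hz => ?_⟩
  by_contra hne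
  have : y ∈ ⋃ p ∈ associatedPrimes R R, (p : Set R) := by
    rw [biUnion_associatedPrimes_eq_zero_divisors]
    exact ⟨z, hne, by rw [smul_eq_mul, mul_comm]; exact hz⟩
  obtain ⟨p, hp, hyp⟩ := Set.mem_iUnion₂.mp this
  exact hav p ((Set.Finite.mem_toFinset _).mpr hp) hyp

include hpos h0 in
/-- high pieces are divisible by a parameter -/
theorem exists_divisible [Algebra.FiniteType k R] (hdim : ringKrullDim R = 1) {D : ℕ} {y : R} (hD : 0 < D)
    (hy : y ∈ 𝒜 (D : ℤ)) (hreg : y ∈ nonZeroDivisors R) :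
    ∃ n₀ : ℕ, ∀ n : ℤ, (n₀ : ℤ) ≤ n → ∀ a ∈ 𝒜 n, ∃ b ∈ 𝒜 (n - D), a = y * b := by
  classical
  haveI : IsNoetherianRing R := Algebra.FiniteType.isNoetherianRing k R
  haveI : Nontrivial R := by
    by_contra h
    rw [not_nontrivial_iff_subsingleton] at h
    rw [ringKrullDim_eq_bot_of_subsingleton] at hdim
    simp at hdim
  let Y := Ideal.span ({y} : Set R)
  have hYh : Y.IsHomogeneous 𝒜 := Ideal.homogeneous_span 𝒜 _ fun a ha => ⟨_, ha ▸ hy⟩
  have hrad : irr 𝒜 ≤ Y.radical := by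
    rw [← Ideal.sInf_minimalPrimes, le_sInf_iff]
    intro P hP
    haveI := hP.1.1
    have hPm := le_irr_of_isHomogeneous 𝒜 hpos h0 (isHomogeneous_minimalPrime 𝒜 hYh hP) hP.1.1.ne_top
    by_contra hnle
    have hlt : P < irr 𝒜 := lt_of_le_not_ge hPm hnle
    have hyP : y ∈ P := hP.1.2 (Ideal.mem_span_singleton_self y)
    obtain ⟨Q, hQ, hQP⟩ := Ideal.exists_minimalPrimes_le (I := (⊥ : Ideal R)) (J := P) bot_le
    haveI := hQ.1.1
    haveI := irr_isMaximal 𝒜 hpos h0
    have hQlt : Q < P := lt_of_le_of_ne hQP fun h =>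
      (Set.disjoint_left.mp (Ideal.disjoint_nonZeroDivisors_of_mem_minimalPrimes hQ) (h ▸ hyP)) hreg
    haveI : Nontrivial (R ⧸ irr 𝒜) := Ideal.Quotient.nontrivial_iff.mpr (irr_ne_top 𝒜 hpos)
    have h1 := CAlgH3.ringKrullDim_quotient_add_one_le hQlt
    have h2 := CAlgH3.ringKrullDim_quotient_add_one_le hlt
    have h3 : (0 : WithBot ℕ∞) + 1 + 1 ≤ 1 := by
      refine le_trans ?_ (hdim ▸ (h1.trans (ringKrullDim_quotient_le Q)))
      gcongr
      refine le_trans ?_ h2
      gcongr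
      exact ringKrullDim_nonneg_of_nontrivial
    have : (0 + 1 + 1 : ℕ) ≤ 1 := by exact_mod_cast h3
    omega
  -- homogeneous generators of the irrelevant ideal
  obtain ⟨G, hG, hspan⟩ := (Submodule.fg_span_iff_fg_span_finset_subset (⋃ n ∈ Set.Ioi (0 : ℤ), (𝒜 n : Set R))).mp
    (IsNoetherian.noetherian (irr 𝒜))
  obtain ⟨N, hN⟩ := Ideal.exists_pow_le_of_le_radical_of_fg hrad (IsNoetherian.noetherian (irr 𝒜))
  have hdeg : ∀ g : G, ∃ d : ℤ, 0 < d ∧ (g : R) ∈ 𝒜 d := fun g => by simpa using hG g.2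
  choose d hd hgd using hdeg
  let M₀ : ℕ := ∑ g, (d g).toNat
  have hbound : ∀ g, d g ≤ M₀ := fun g => by
    have := Finset.single_le_sum (f := fun g => (d g).toNat) (fun _ _ => Nat.zero_le _) (Finset.mem_univ g)
    have := hd g
    simp only [M₀]
    omega
  have hpw : ∀ (j : ℕ) (n : ℤ), ((j * M₀ : ℕ) : ℤ) < n → ∀ a ∈ 𝒜 n, a ∈ irr 𝒜 ^ j := by
    intro j
    induction j with
    | zero => intro n _ a _; simp
    | succ j ih =>
      intro n hn a ha
      have haG : a ∈ Submodule.span R (Set.range (Subtype.val : G → R)) := by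
        rw [Subtype.range_coe_subtype, Finset.setOfPred_mem, ← hspan]
        exact mem_irr_of_mem 𝒜 (by omega) ha
      obtain ⟨f, hf⟩ := (Submodule.mem_span_range_iff_exists_fun R).mp haG
      rw [← DirectSum.decompose_of_mem_same 𝒜 ha, ← GradedRing.proj_apply, ← hf, map_sum]
      refine Submodule.sum_mem _ fun g _ => ?_
      have := DirectSum.coe_decompose_mul_add_of_right_mem 𝒜 (i := n - d g) (a := f g) (hgd g)
      rw [sub_add_cancel] at this
      rw [GradedRing.proj_apply, smul_eq_mul, this, pow_succ]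
      refine Ideal.mul_mem_mul (ih (n - d g) ?_ _ (decompose 𝒜 (f g) (n - d g)).2)
        (mem_irr_of_mem 𝒜 (hd g) (hgd g))
      have := hbound g
      push_cast at hn ⊢
      linarith
  refine ⟨N * M₀ + 1, fun n hn a ha => ?_⟩
  obtain ⟨b, hb⟩ := Ideal.mem_span_singleton'.mp (hN (hpw N n (by omega) a ha))
  refine ⟨_, (decompose 𝒜 b (n - D)).2, ?_⟩
  have := DirectSum.coe_decompose_mul_add_of_right_mem 𝒜 (i := n - D) (a := b) hy
  rw [sub_add_cancel, hb, DirectSum.decompose_of_mem_same 𝒜 ha] at this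
  rw [this, mul_comm]

include hpos h0 hstd in
/-- either a piece containing a regular element is two-dimensional, or the algebra is a polynomial ring -/
theorem polynomial_or_exists_notMem [Nontrivial R] {D : ℕ} {y : R} (hD : 0 < D) (hy : y ∈ 𝒜 (D : ℤ))
    (hreg : y ∈ nonZeroDivisors R) :
    (∃ a ∈ 𝒜 (D : ℤ), a ∉ Submodule.span k {y}) ∨ Nonempty (R ≃ₐ[k] Polynomial k) := by
  by_cases hne : ∃ a ∈ 𝒜 (D : ℤ), a ∉ Submodule.span k {y}
  · exact Or.inl hne
  simp only [not_exists, not_and, not_not] at hne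
  refine Or.inr ?_
  obtain ⟨m, rfl⟩ : ∃ m, D = m + 1 := ⟨D - 1, by omega⟩
  have hy0 : y ≠ 0 := nonZeroDivisors.ne_zero hreg
  have hy' : y ∈ 𝒜 ((m : ℤ) + 1) := by simpa using hy
  have hex : ∃ r x : R, r ∈ 𝒜 (m : ℤ) ∧ x ∈ 𝒜 1 ∧ r * x ≠ 0 := by
    by_contra hc
    simp only [not_exists, not_and, not_not] at hc
    apply hy0
    have := Submodule.span_le (p := (⊥ : Submodule k R)).mpr
      (by rintro _ ⟨p, hp, q, hq, rfl⟩; simpa using hc p q hp hq)
      (piece_succ_le 𝒜 hstd (n := m) (by omega) hy')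
    simpa using this
  obtain ⟨r, x, hr, hx, hrx⟩ := hex
  obtain ⟨c, hc⟩ := Submodule.mem_span_singleton.mp (hne (r * x) (by
    have := SetLike.mul_mem_graded hr hx
    simpa using this))
  have hc0 : c ≠ 0 := fun h => hrx (by rw [← hc, h, zero_smul])
  have hcy : r * x ∈ nonZeroDivisors R := by
    rw [← hc, Algebra.smul_def]
    exact mul_mem ((IsUnit.mk0 c hc0).map (algebraMap k R)).mem_nonZeroDivisors hreg
  have hxreg : x ∈ nonZeroDivisors R := (mul_mem_nonZeroDivisors.mp hcy).2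
  refine nonempty_equiv_polynomial 𝒜 hpos h0 hstd hx (fun z hz => ?_) hxreg
  have hxm : ∀ i : ℕ, x ^ i ∈ 𝒜 (i : ℤ) := fun i => by
    have := SetLike.pow_mem_graded (A := 𝒜) i hx
    simpa [nsmul_eq_mul] using this
  obtain ⟨c₁, hc₁⟩ := Submodule.mem_span_singleton.mp (hne (x ^ m * z) (by
    have := SetLike.mul_mem_graded (hxm m) hz
    simpa using this))
  obtain ⟨c₂, hc₂⟩ := Submodule.mem_span_singleton.mp (hne (x ^ (m + 1)) (hxm (m + 1)))
  have hc₂0 : c₂ ≠ 0 := fun h => nonZeroDivisors.ne_zero (pow_mem hxreg (m + 1)) (by rw [← hc₂, h, zero_smul])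
  refine Submodule.mem_span_singleton.mpr ⟨c₁ / c₂, ?_⟩
  have e : x ^ m * ((c₁ / c₂) • x) = x ^ m * z := by
    rw [mul_smul_comm, ← pow_succ, ← hc₂, smul_smul, div_mul_cancel₀ _ hc₂0, hc₁]
  exact (mul_cancel_left_mem_nonZeroDivisors (pow_mem hxreg m)).mp e

end Groth.Agent.SegreDim
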