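import Mathlib.RingTheory.KrullDimension.Module
import Mathlib.RingTheory.Artinian.Module
import Groth.Agent.SegreDim.Segre
import Groth.Agent.SegreDim.Diag
import Groth.Agent.SegreDim.QuotGrading

/-!
# Dimension of Segre products of modules
-/

set_option autoImplicit false
universe u

open DirectSum TensorProduct MvPolynomial

namespace Groth.Agent.SegreDim

variable {k : Type u} [Field k] {R : Type u} [CommRing R] [Algebra k R] (𝒜 : ℤ → Submodule k R)
  [GradedAlgebra 𝒜]
  {M : Type u} [AddCommGroup M] [Module R M] [Module k M] [IsScalarTower k R M]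
  {τ : Type u} [SetLike τ M] [AddSubgroupClass τ M] (ℳ : ℤ → τ) [DirectSum.Decomposition ℳ]
  [SetLike.GradedSMul 𝒜 ℳ]

include ℳ in
theorem annihilator_isHomogeneous : (Module.annihilator R M).IsHomogeneous 𝒜 := by
  classical
  intro i r hr
  rw [Module.mem_annihilator] at hr ⊢
  intro m
  rw [← sum_support_decompose ℳ m, Finset.smul_sum]
  refine Finset.sum_eq_zero fun j _ => ?_
  have h := hr (decompose ℳ m j : M)
  rw [← sum_support_decompose 𝒜 r, Finset.sum_smul] at h
  have hmem : ∀ l, (decompose 𝒜 r l : R) • (decompose ℳ m j : M) ∈ ℳ (l + j) := fun l =>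
    SetLike.GradedSMul.smul_mem (decompose 𝒜 r l).2 (decompose ℳ m j).2
  have hproj := congrArg (fun z => pieceProj 𝒜 ℳ (i + j) z) h
  simp only [map_sum, map_zero] at hproj
  by_cases hi : i ∈ (decompose 𝒜 r).support
  · rw [Finset.sum_eq_single i (fun l _ hl => by
      rw [pieceProj_apply, decompose_of_mem_ne ℳ (hmem l) (by simpa using hl)])
      (fun hc => absurd hi hc), pieceProj_apply, decompose_of_mem_same ℳ (hmem i)] at hproj
    exact hproj
  · rw [DFinsupp.notMem_support_iff] at hi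
    simp [hi]

variable (hpos : ∀ n : ℤ, n < 0 → 𝒜 n = ⊥) (h0 : 𝒜 0 = Submodule.span k {(1 : R)})

include hpos h0 in
theorem exists_module_params [Algebra.FiniteType k R] [Module.Finite R M] (r : ℕ)
    (hr : ringKrullDim (R ⧸ Module.annihilator R M) = r) (hann : (Module.annihilator R M).IsHomogeneous 𝒜) :
    ∃ (D : ℕ) (y : Fin r → R), 0 < D ∧ (∀ i, y i ∈ 𝒜 (D : ℤ)) ∧
      Function.Injective ((Ideal.Quotient.mkₐ k (Module.annihilator R M)).comp (aeval y)) ∧
      ((Ideal.Quotient.mkₐ k (Module.annihilator R M)).comp (aeval y)).toRingHom.IsIntegral := by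
  set J := Module.annihilator R M
  letI := quotGradedAlgebra 𝒜 hann
  have hpos' : ∀ n : ℤ, n < 0 → quotGrading 𝒜 J n = ⊥ := fun n hn => by
    rw [quotGrading, hpos n hn, Submodule.map_bot]
  have h0' : quotGrading 𝒜 J 0 = Submodule.span k {(1 : R ⧸ J)} := by
    rw [quotGrading, h0, Submodule.map_span, Set.image_singleton]; rfl
  obtain ⟨D, y', hD, hy', hinj, hfin⟩ := exists_normalization (quotGrading 𝒜 J) hpos' h0' r hr
  have h : ∀ i, ∃ a, a ∈ 𝒜 (D : ℤ) ∧ Ideal.Quotient.mkₐ k J a = y' i := fun i => hy' i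
  choose y hy hyy using h
  refine ⟨D, y, hD, hy, ?_⟩
  have e : (Ideal.Quotient.mkₐ k J).comp (aeval y) = aeval y' :=
    MvPolynomial.algHom_ext fun i => by simpa using hyy i
  rw [e]
  exact ⟨hinj, RingHom.Finite.to_isIntegral hfin⟩

/-- raising the parameters to a power -/
theorem params_pow {A : Type u} [CommRing A] [Algebra k A] {l : ℕ} (f : R →ₐ[k] A) (y : Fin l → R)
    (e : ℕ) (he : 0 < e) (hinj : Function.Injective (f.comp (aeval y)))
    (hint : (f.comp (aeval y)).toRingHom.IsIntegral) :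
    Function.Injective (f.comp (aeval fun i => y i ^ e)) ∧
      (f.comp (aeval fun i => y i ^ e)).toRingHom.IsIntegral := by
  have hc : f.comp (aeval fun i => y i ^ e) = (f.comp (aeval y)).comp (expand e) :=
    MvPolynomial.algHom_ext fun i => by simp
  refine ⟨?_, ?_⟩
  · rw [hc]; exact hinj.comp (expand_injective he)
  · rw [hc]
    show ((f.comp (aeval y)).toRingHom.comp (expand (R := k) (σ := Fin l) e).toRingHom).IsIntegral
    refine RingHom.IsIntegral.trans _ _ ?_ hint
    intro p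
    induction p using MvPolynomial.induction_on with
    | C a =>
      have := (expand (R := k) (σ := Fin l) e).toRingHom.isIntegralElem_map (x := C a)
      simpa using this
    | add p q hp hq => exact RingHom.IsIntegralElem.add _ hp hq
    | mul_X p i hp =>
      refine RingHom.IsIntegralElem.mul _ hp ⟨Polynomial.X ^ e - Polynomial.C (X i),
        Polynomial.monic_X_pow_sub_C _ he.ne', ?_⟩
      rw [Polynomial.eval₂_sub, Polynomial.eval₂_X_pow, Polynomial.eval₂_C]
      simp

/-- elements killed by a nonzero parameter polynomial -/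
noncomputable def torsionOf {l : ℕ} (y : Fin l → R) : Submodule R M where
  carrier := {m | ∃ p : MvPolynomial (Fin l) k, p ≠ 0 ∧ aeval y p • m = 0}
  zero_mem' := ⟨1, one_ne_zero, smul_zero _⟩
  add_mem' := by
    rintro a b ⟨p, hp, hpa⟩ ⟨q, hq, hqb⟩
    refine ⟨p * q, mul_ne_zero hp hq, ?_⟩
    rw [smul_add, map_mul]
    conv_lhs => arg 1; rw [mul_comm, mul_smul, hpa, smul_zero]
    rw [zero_add, mul_smul, hqb, smul_zero]
  smul_mem' := by
    rintro r a ⟨p, hp, hpa⟩
    exact ⟨p, hp, by rw [smul_comm, hpa, smul_zero]⟩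

include hpos h0 in
theorem exists_torsionFree [Module.Finite R M] {l D : ℕ} (hl : 0 < l) (hD : 0 < D) (y : Fin l → R)
    (hy : ∀ i, y i ∈ 𝒜 (D : ℤ))
    (hinj : Function.Injective ((Ideal.Quotient.mkₐ k (Module.annihilator R M)).comp (aeval y)))
    (hstd : Ideal.span (⋃ n ∈ Set.Ioi (0 : ℤ), (𝒜 n : Set R)) = Ideal.span ((𝒜 1 : Submodule k R) : Set R)) :
    ∃ a : ℤ, ∀ c : ℤ, a ≤ c → ∃ m ∈ ℳ c, m ∉ torsionOf (k := k) (M := M) y := by
  classical
  have hexists : ∃ (a : ℤ) (m : M), m ∈ ℳ a ∧ m ∉ torsionOf (k := k) (M := M) y := by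
    by_contra hc
    simp only [not_exists, not_and, not_not] at hc
    have htop : ∀ m : M, m ∈ torsionOf (k := k) (M := M) y := fun m => by
      rw [← sum_support_decompose ℳ m]
      exact Submodule.sum_mem _ fun i _ => hc i _ (decompose ℳ m i).2
    obtain ⟨gs, hgs⟩ := (inferInstance : Module.Finite R M).fg_top
    choose p hp hpm using fun g : M => htop g
    have : ∏ g ∈ gs, p g = 0 := by
      apply hinj
      rw [map_zero, AlgHom.comp_apply, Ideal.Quotient.mkₐ_eq_mk, Ideal.Quotient.eq_zero_iff_mem,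
        ← Submodule.annihilator_top, ← hgs, Submodule.mem_annihilator_span]
      rintro ⟨g, hg⟩
      show aeval y (∏ g' ∈ gs, p g') • g = 0
      rw [← Finset.prod_erase_mul gs p hg, map_mul, mul_smul, hpm, smul_zero]
    exact Finset.prod_ne_zero_iff.mpr (fun g _ => hp g) this
  obtain ⟨a, m, hm, hmt⟩ := hexists
  refine ⟨a, fun c hc => ?_⟩
  suffices ∀ i : ℕ, ∃ m ∈ ℳ (a + i), m ∉ torsionOf (k := k) (M := M) y by
    obtain ⟨m', hm'⟩ := this (c - a).toNat
    rw [Int.toNat_of_nonneg (by omega), add_sub_cancel] at hm'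
    exact ⟨m', hm'⟩
  intro i
  induction i with
  | zero => exact ⟨m, by simpa using hm, hmt⟩
  | succ i ih =>
    obtain ⟨n, hn, hnt⟩ := ih
    by_contra hc
    simp only [not_exists, not_and, not_not] at hc
    apply hnt
    have hy0 : y ⟨0, hl⟩ ∈ Ideal.span ((𝒜 1 : Submodule k R) : Set R) := by
      rw [← hstd]
      exact mem_irr_of_mem 𝒜 (by exact_mod_cast hD) (hy _)
    have hle : Ideal.span ((𝒜 1 : Submodule k R) : Set R) ≤
        (torsionOf (k := k) (M := M) y).comap (LinearMap.toSpanSingleton R M n) := by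
      rw [Ideal.span_le]
      intro x hx
      show x • n ∈ torsionOf (k := k) (M := M) y
      refine hc _ ?_
      have := SetLike.GradedSMul.smul_mem (A := 𝒜) (B := ℳ) hx hn
      rw [vadd_eq_add, show (1 : ℤ) + (a + i) = a + ((i + 1 : ℕ) : ℤ) by push_cast; ring] at this
      exact this
    obtain ⟨p, hp, hpn⟩ : y ⟨0, hl⟩ • n ∈ torsionOf (k := k) (M := M) y := hle hy0
    refine ⟨p * X ⟨0, hl⟩, mul_ne_zero hp (X_ne_zero _), ?_⟩
    rw [map_mul, aeval_X, mul_smul]
    exact hpn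

theorem one_le_of_not_isArtinian [IsNoetherianRing R] [Module.Finite R M] (hMA : ¬ IsArtinian R M)
    (d : ℕ) (hd : ringKrullDim (R ⧸ Module.annihilator R M) = d) : 1 ≤ d := by
  by_contra h
  obtain rfl : d = 0 := by omega
  haveI : Ring.KrullDimLE 0 (R ⧸ Module.annihilator R M) :=
    Ring.krullDimLE_iff.mpr (le_of_eq hd)
  haveI : IsArtinianRing (R ⧸ Module.annihilator R M) :=
    IsNoetherianRing.isArtinianRing_of_krullDimLE_zero
  apply hMA
  let hT : Module.IsTorsionBySet R M (Module.annihilator R M : Set R) :=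
    fun m r => Module.mem_annihilator.mp r.2 m
  letI := hT.module
  haveI : Module.Finite (R ⧸ Module.annihilator R M) M := Module.Finite.of_restrictScalars_finite R _ _
  exact hT.semilinearMap.isArtinian_iff_of_bijective Function.bijective_id |>.mpr inferInstance

variable {S : Type u} [CommRing S] [Algebra k S] (ℬ : ℤ → Submodule k S) [GradedAlgebra ℬ]
  {N : Type u} [AddCommGroup N] [Module S N] [Module k N] [IsScalarTower k S N]
  {τ' : Type u} [SetLike τ' N] [AddSubgroupClass τ' N] (𝒩 : ℤ → τ') [DirectSum.Decomposition 𝒩]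
  [SetLike.GradedSMul ℬ 𝒩]

/-- the action only depends on the images modulo the annihilators -/
theorem act_eq_zero_of_map (z : R ⊗[k] S) (w : M ⊗[k] N)
    (hz : Algebra.TensorProduct.map (Ideal.Quotient.mkₐ k (Module.annihilator R M))
      (Ideal.Quotient.mkₐ k (Module.annihilator S N)) z = 0) :
    GrSeg.act k R S M N z w = 0 := by
  let LR : (R ⧸ Module.annihilator R M) →ₗ[k] Module.End k M :=
    ((Module.annihilator R M).restrictScalars k).liftQ (Algebra.lsmul k k M).toLinearMap fun r hr => by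
      ext m; exact Module.mem_annihilator.mp hr m
  let LS : (S ⧸ Module.annihilator S N) →ₗ[k] Module.End k N :=
    ((Module.annihilator S N).restrictScalars k).liftQ (Algebra.lsmul k k N).toLinearMap fun r hr => by
      ext m; exact Module.mem_annihilator.mp hr m
  have key : ∀ z : R ⊗[k] S, GrSeg.act k R S M N z w =
      TensorProduct.map₂ LR LS (Algebra.TensorProduct.map (Ideal.Quotient.mkₐ k (Module.annihilator R M))
        (Ideal.Quotient.mkₐ k (Module.annihilator S N)) z) w := by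
    intro z
    induction z using TensorProduct.induction_on with
    | zero => simp
    | add p q hp hq => simp [hp, hq]
    | tmul r s =>
      induction w using TensorProduct.induction_on with
      | zero => simp
      | add p q hp hq => simp only [map_add, hp, hq]
      | tmul a b =>
        rw [GrSeg.act_tmul, Algebra.TensorProduct.map_tmul, TensorProduct.map₂_apply_tmul,
          TensorProduct.map_tmul]
        rfl
  rw [key, hz, map_zero]; rfl

/-- Dimension of Segre products of modules, given a faithful element -/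
theorem supportDim_segre_of_faithful (hposR : ∀ n : ℤ, n < 0 → 𝒜 n = ⊥) (h0R : 𝒜 0 = Submodule.span k {(1 : R)})
    [Algebra.FiniteType k R] (hposS : ∀ n : ℤ, n < 0 → ℬ n = ⊥) (h0S : ℬ 0 = Submodule.span k {(1 : S)})
    [Algebra.FiniteType k S]
    [Module.Finite R M] [Module.Finite S N]
    {T : Type u} [CommRing T] [Algebra k T] (𝒯 : ℤ → Submodule k T) [GradedAlgebra 𝒯]
    (ψ : T →ₐ[k] R ⊗[k] S) (hψ : Function.Injective ψ)
    (hdegT : ∀ n : ℤ, (𝒯 n).map ψ.toLinearMap = GrSeg.segrePiece k 𝒜 ℬ n)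
    {P : Type u} [AddCommGroup P] [Module T P] [Module k P]
    {τQ : Type u} [SetLike τQ P] [AddSubgroupClass τQ P] (𝒬 : ℤ → τQ) [DirectSum.Decomposition 𝒬]
    (φ : P →ₗ[k] M ⊗[k] N) (hφ : Function.Injective φ)
    (hdegP : ∀ n : ℤ, φ '' (𝒬 n : Set P) = (GrSeg.segrePiece k ℳ 𝒩 n : Set (M ⊗[k] N)))
    (hsmul : ∀ (t : T) (p : P), φ (t • p) = GrSeg.act k R S M N (ψ t) (φ p))
    (r s : ℕ) (hr : Module.supportDim R M = ((r + 1 : ℕ) : WithBot ℕ∞))
    (hs : Module.supportDim S N = ((s + 1 : ℕ) : WithBot ℕ∞))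
    (hfaith : ∀ (D : ℕ) (y : Fin (r + 1) → R) (z : Fin (s + 1) → S), 0 < D → (∀ i, y i ∈ 𝒜 (D : ℤ)) →
      (∀ i, z i ∈ ℬ (D : ℤ)) →
      Function.Injective ((Ideal.Quotient.mkₐ k (Module.annihilator R M)).comp (aeval y)) →
      ((Ideal.Quotient.mkₐ k (Module.annihilator R M)).comp (aeval y)).toRingHom.IsIntegral →
      Function.Injective ((Ideal.Quotient.mkₐ k (Module.annihilator S N)).comp (aeval z)) →
      ((Ideal.Quotient.mkₐ k (Module.annihilator S N)).comp (aeval z)).toRingHom.IsIntegral →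
      ∃ p₀ : P, ∀ c : MvPolynomial (Fin (r + 1) ⊕ Fin (s + 1)) k,
        GrSeg.act k R S M N (aeval (Sum.elim (fun i => y i ⊗ₜ[k] (1 : S))
          (fun j => (1 : R) ⊗ₜ[k] z j)) c) (φ p₀) = 0 → c = 0) :
    Module.supportDim T P = ((r + 1 + s : ℕ) : WithBot ℕ∞) := by
  classical
  rw [Module.supportDim_eq_ringKrullDim_quotient_annihilator] at hr hs
  haveI := isNoetherian_segre 𝒜 ℳ ℬ 𝒩 𝒯 ψ hdegT 𝒬 φ hφ hdegP hsmul
  haveI : Module.Finite T P := inferInstance
  rw [Module.supportDim_eq_ringKrullDim_quotient_annihilator]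
  obtain ⟨Dy, y₁, hDy, hy₁, hy₁inj, hy₁int⟩ :=
    exists_module_params 𝒜 hposR h0R (r + 1) hr (annihilator_isHomogeneous 𝒜 ℳ)
  obtain ⟨Dz, z₁, hDz, hz₁, hz₁inj, hz₁int⟩ :=
    exists_module_params ℬ hposS h0S (s + 1) hs (annihilator_isHomogeneous ℬ 𝒩)
  let D := Dy * Dz
  have hD : 0 < D := Nat.mul_pos hDy hDz
  let y : Fin (r + 1) → R := fun i => y₁ i ^ Dz
  let z : Fin (s + 1) → S := fun i => z₁ i ^ Dy
  have hy : ∀ i, y i ∈ 𝒜 (D : ℤ) := fun i => by
    have := SetLike.pow_mem_graded (A := 𝒜) Dz (hy₁ i)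
    rw [nsmul_eq_mul, mul_comm] at this
    simpa [D] using this
  have hz : ∀ i, z i ∈ ℬ (D : ℤ) := fun i => by
    have := SetLike.pow_mem_graded (A := ℬ) Dy (hz₁ i)
    simpa [D, nsmul_eq_mul] using this
  obtain ⟨hyinj, hyint⟩ := params_pow (Ideal.Quotient.mkₐ k (Module.annihilator R M)) y₁ Dz hDz hy₁inj hy₁int
  obtain ⟨hzinj, hzint⟩ := params_pow (Ideal.Quotient.mkₐ k (Module.annihilator S N)) z₁ Dy hDy hz₁inj hz₁int
  let Q := MvPolynomial (Fin (r + 1) ⊕ Fin (s + 1)) k
  let Φ : Q →ₐ[k] R ⊗[k] S := aeval (Sum.elim (fun i => y i ⊗ₜ[k] (1 : S)) (fun j => (1 : R) ⊗ₜ[k] z j))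
  let φR : MvPolynomial (Fin (r + 1)) k →ₐ[k] R := aeval y
  let φS : MvPolynomial (Fin (s + 1)) k →ₐ[k] S := aeval z
  let π := Algebra.TensorProduct.map (Ideal.Quotient.mkₐ k (Module.annihilator R M))
      (Ideal.Quotient.mkₐ k (Module.annihilator S N))
  have hint : ∀ w : R ⊗[k] S, (π.comp Φ).toRingHom.IsIntegralElem (π w) := by
    intro w
    induction w using TensorProduct.induction_on with
    | zero => rw [map_zero]; exact RingHom.isIntegralElem_zero _
    | add a b ha hb => rw [map_add]; exact RingHom.IsIntegralElem.add _ ha hb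
    | tmul a b =>
      rw [show a ⊗ₜ[k] b = (a ⊗ₜ[k] (1 : S)) * ((1 : R) ⊗ₜ[k] b) by simp, map_mul]
      refine RingHom.IsIntegralElem.mul _ ?_ ?_
      · obtain ⟨p, hp, hpa⟩ := hyint (Ideal.Quotient.mkₐ k (Module.annihilator R M) a)
        refine ⟨p.map (rename Sum.inl).toRingHom, hp.map _, ?_⟩
        let inc := (Algebra.TensorProduct.includeLeft :
          (R ⧸ Module.annihilator R M) →ₐ[k] (R ⧸ Module.annihilator R M) ⊗[k] (S ⧸ Module.annihilator S N))
        have hc : (π.comp Φ).comp (rename Sum.inl) =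
            inc.comp ((Ideal.Quotient.mkₐ k (Module.annihilator R M)).comp φR) :=
          MvPolynomial.algHom_ext fun i => by simp [Φ, φR, π, inc, Q, rename_X]
        have h := congrArg inc.toRingHom hpa
        rw [map_zero, Polynomial.hom_eval₂] at h
        rw [Polynomial.eval₂_map, show π (a ⊗ₜ[k] (1 : S)) = inc (Ideal.Quotient.mkₐ k _ a) by
          simp [π, inc]]
        refine Eq.trans ?_ h
        exact congrArg (fun f : _ →+* _ => p.eval₂ f _) (congrArg AlgHom.toRingHom hc)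
      · obtain ⟨p, hp, hpa⟩ := hzint (Ideal.Quotient.mkₐ k (Module.annihilator S N) b)
        refine ⟨p.map (rename Sum.inr).toRingHom, hp.map _, ?_⟩
        let inc := (Algebra.TensorProduct.includeRight :
          (S ⧸ Module.annihilator S N) →ₐ[k] (R ⧸ Module.annihilator R M) ⊗[k] (S ⧸ Module.annihilator S N))
        have hc : (π.comp Φ).comp (rename Sum.inr) =
            inc.comp ((Ideal.Quotient.mkₐ k (Module.annihilator S N)).comp φS) :=
          MvPolynomial.algHom_ext fun i => by simp [Φ, φS, π, inc, Q, rename_X]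
        have h := congrArg inc.toRingHom hpa
        rw [map_zero, Polynomial.hom_eval₂] at h
        rw [Polynomial.eval₂_map, show π ((1 : R) ⊗ₜ[k] b) = inc (Ideal.Quotient.mkₐ k _ b) by
          simp [π, inc]]
        refine Eq.trans ?_ h
        exact congrArg (fun f : _ →+* _ => p.eval₂ f _) (congrArg AlgHom.toRingHom hc)
  have hmono : ∀ (e : (Fin (r + 1) ⊕ Fin (s + 1)) →₀ ℕ) (c : k),
      Φ (monomial e c) = (c • ∏ i, y i ^ e (Sum.inl i)) ⊗ₜ[k] ∏ j, z j ^ e (Sum.inr j) := by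
    intro e c
    rw [aeval_monomial, Finsupp.prod_fintype _ _ fun x => by simp, Fintype.prod_sum_type]
    simp only [Sum.elim_inl, Sum.elim_inr, Algebra.TensorProduct.tmul_pow, one_pow]
    rw [show (∏ i, (y i ^ e (Sum.inl i)) ⊗ₜ[k] (1 : S)) = (∏ i, y i ^ e (Sum.inl i)) ⊗ₜ[k] (1 : S) from
        (map_prod (Algebra.TensorProduct.includeLeft : R →ₐ[k] R ⊗[k] S) _ _).symm,
      show (∏ j, (1 : R) ⊗ₜ[k] (z j ^ e (Sum.inr j))) = (1 : R) ⊗ₜ[k] ∏ j, z j ^ e (Sum.inr j) from
        (map_prod (Algebra.TensorProduct.includeRight : S →ₐ[k] R ⊗[k] S) _ _).symm,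
      Algebra.TensorProduct.tmul_mul_tmul, mul_one, one_mul, ← Algebra.smul_def, TensorProduct.smul_tmul']
  have hproj : ∀ (c : Q) (a : ℤ), ∃ g ∈ model k r s, biproj 𝒜 ℬ a a (Φ c) = Φ g := by
    intro c a
    induction c using MvPolynomial.induction_on' with
    | add p q hp hq =>
      obtain ⟨g₁, hg₁, e₁⟩ := hp
      obtain ⟨g₂, hg₂, e₂⟩ := hq
      exact ⟨g₁ + g₂, add_mem hg₁ hg₂, by rw [map_add, map_add, map_add, e₁, e₂]⟩
    | monomial e c =>
      rw [hmono, biproj_of_mem 𝒜 ℬ (Submodule.smul_mem _ c (prod_pow_mem 𝒜 D y hy _)) (prod_pow_mem ℬ D z hz _)]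
      split_ifs with h
      · refine ⟨monomial e c, ?_, (hmono e c).symm⟩
        have h' : D * ∑ i, e (Sum.inl i) = D * ∑ j, e (Sum.inr j) := by exact_mod_cast h.1.trans h.2.symm
        rw [show monomial e c = c • monomial e (1 : k) by rw [smul_monomial, smul_eq_mul, mul_one]]
        exact Subalgebra.smul_mem _ (monomial_mem_model _ e rfl (Nat.eq_of_mul_eq_mul_left hD h').symm) _
      · exact ⟨0, zero_mem _, (map_zero Φ).symm⟩
  have hgen : ∀ u : model k r s, Φ u ∈ ψ.range := by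
    have : model k r s ≤ ψ.range.comap Φ := by
      refine Algebra.adjoin_le ?_
      rintro _ ⟨⟨i, j⟩, rfl⟩
      show Φ (X (Sum.inl i) * X (Sum.inr j)) ∈ ψ.range
      have hmem : y i ⊗ₜ[k] z j ∈ (𝒯 (D : ℤ)).map ψ.toLinearMap := by
        rw [hdegT]; exact Submodule.subset_span ⟨_, hy i, _, hz j, rfl⟩
      obtain ⟨t, -, ht⟩ := hmem
      refine ⟨t, ht.trans ?_⟩
      rw [map_mul]
      simp [Φ, Q, MvPolynomial.aeval_X]
    exact fun u => this u.2
  let ι : model k r s →ₐ[k] T :=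
    (AlgEquiv.ofInjective ψ hψ).symm.toAlgHom.comp ((Φ.comp (model k r s).val).codRestrict ψ.range hgen)
  have hψι : ∀ u, ψ (ι u) = Φ u := fun u =>
    congrArg Subtype.val ((AlgEquiv.ofInjective ψ hψ).apply_symm_apply _)
  let κ : model k r s →+* T ⧸ Module.annihilator T P :=
    (Ideal.Quotient.mk (Module.annihilator T P)).comp ι.toRingHom
  -- faithful
  have hκinj : Function.Injective κ := by
    obtain ⟨p₀, hp₀⟩ := hfaith D y z hD hy hz hyinj hyint hzinj hzint
    rw [injective_iff_map_eq_zero]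
    intro u hu
    have h1 : ι u • p₀ = 0 := Module.mem_annihilator.mp (Ideal.Quotient.eq_zero_iff_mem.mp hu) p₀
    have h2 := congrArg φ h1
    rw [map_zero, hsmul, hψι] at h2
    exact Subtype.ext (hp₀ _ h2)
  letI := κ.toAlgebra
  haveI : Algebra.IsIntegral (model k r s) (T ⧸ Module.annihilator T P) := by
    constructor
    intro t'
    obtain ⟨t, rfl⟩ := Ideal.Quotient.mk_surjective t'
    rw [← DirectSum.sum_support_decompose 𝒯 t, map_sum]
    refine IsIntegral.sum _ fun n _ => ?_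
    generalize ht : (decompose 𝒯 t n : T) = v
    have hv : v ∈ 𝒯 n := ht ▸ (decompose 𝒯 t n).2
    clear ht
    obtain ⟨p, hp, hpe⟩ := hint (ψ v)
    let N' := p.natDegree
    choose g hg hge using fun i : ℕ => hproj (p.coeff i) (((N' : ℤ) - i) * n)
    let q : Polynomial (model k r s) :=
      Polynomial.X ^ N' + ∑ i ∈ Finset.range N', Polynomial.C ⟨g i, hg i⟩ * Polynomial.X ^ i
    have hq : q.Monic := Polynomial.monic_X_pow_add <| lt_of_le_of_lt (Polynomial.degree_sum_le _ _) <|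
      (Finset.sup_lt_iff (WithBot.bot_lt_coe N')).mpr fun i hi =>
        lt_of_le_of_lt (Polynomial.degree_C_mul_X_pow_le _ _) (WithBot.coe_lt_coe.mpr (Finset.mem_range.mp hi))
    refine ⟨q, hq, ?_⟩
    show q.eval₂ ((Ideal.Quotient.mk _).comp ι.toRingHom) (Ideal.Quotient.mk _ v) = 0
    rw [← Polynomial.hom_eval₂, Ideal.Quotient.eq_zero_iff_mem, Module.mem_annihilator]
    intro x
    apply hφ
    rw [map_zero, hsmul]
    apply act_eq_zero_of_map
    have hpw : ∀ i : ℕ, ψ v ^ i ∈ GrSeg.segrePiece k 𝒜 ℬ ((i : ℤ) * n) := by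
      intro i
      rw [← hdegT, ← map_pow]
      refine ⟨v ^ i, ?_, rfl⟩
      have := SetLike.pow_mem_graded (A := 𝒯) i hv
      rwa [nsmul_eq_mul] at this
    have hshift : ∀ i : ℕ, biproj 𝒜 ℬ ((N' : ℤ) * n) ((N' : ℤ) * n) (Φ (p.coeff i) * ψ v ^ i) =
        Φ (g i) * ψ v ^ i := by
      intro i
      rw [← hge, ← biproj_mul_piece 𝒜 ℬ (hpw i)]
      congr 2 <;> ring
    have hlead : biproj 𝒜 ℬ ((N' : ℤ) * n) ((N' : ℤ) * n) (ψ v ^ N') = ψ v ^ N' := by
      have h1 : biproj 𝒜 ℬ (0 : ℤ) 0 (1 : R ⊗[k] S) = 1 := by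
        rw [Algebra.TensorProduct.one_def, biproj_of_mem 𝒜 ℬ SetLike.GradedOne.one_mem SetLike.GradedOne.one_mem]
        simp
      have := biproj_mul_piece 𝒜 ℬ (hpw N') 0 0 1
      rwa [zero_add, one_mul, h1, one_mul] at this
    have heval : ψ (Polynomial.eval₂ ι.toRingHom v q) =
        biproj 𝒜 ℬ ((N' : ℤ) * n) ((N' : ℤ) * n) (Polynomial.eval₂ Φ.toRingHom (ψ v) p) := by
      rw [Polynomial.eval₂_eq_sum_range (f := Φ.toRingHom), Finset.sum_range_succ, map_add, map_sum]
      have hlc : p.coeff N' = 1 := hp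
      rw [hlc, map_one, one_mul, hlead]
      simp only [q, Polynomial.eval₂_add, Polynomial.eval₂_X_pow, Polynomial.eval₂_finsetSum,
        Polynomial.eval₂_mul, Polynomial.eval₂_C, map_add, map_sum, map_mul, map_pow]
      rw [add_comm]
      congr 1
      refine Finset.sum_congr rfl fun i _ => ?_
      show ψ (ι ⟨g i, hg i⟩) * ψ v ^ i = biproj 𝒜 ℬ _ _ (Φ (p.coeff i) * ψ v ^ i)
      rw [hψι, hshift]
    rw [heval]
    -- projections commute with reduction modulo the annihilators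
    letI := quotGradedAlgebra 𝒜 (annihilator_isHomogeneous 𝒜 ℳ)
    letI := quotGradedAlgebra ℬ (annihilator_isHomogeneous ℬ 𝒩)
    have hcomm : ∀ (w : R ⊗[k] S) (a b : ℤ), π (biproj 𝒜 ℬ a b w) =
        biproj (quotGrading 𝒜 (Module.annihilator R M)) (quotGrading ℬ (Module.annihilator S N)) a b (π w) := by
      intro w a b
      induction w using TensorProduct.induction_on with
      | zero => simp
      | add p q hp hq => simp [hp, hq]
      | tmul p q =>
        rw [← sum_support_decompose 𝒜 p, ← sum_support_decompose ℬ q, sum_tmul, map_sum, map_sum, map_sum,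
          map_sum]
        refine Finset.sum_congr rfl fun i _ => ?_
        rw [tmul_sum, map_sum, map_sum, map_sum, map_sum]
        refine Finset.sum_congr rfl fun j _ => ?_
        have hi' : Ideal.Quotient.mkₐ k (Module.annihilator R M) ↑(decompose 𝒜 p i) ∈
            quotGrading 𝒜 (Module.annihilator R M) i := ⟨_, (decompose 𝒜 p i).2, rfl⟩
        have hj' : Ideal.Quotient.mkₐ k (Module.annihilator S N) ↑(decompose ℬ q j) ∈
            quotGrading ℬ (Module.annihilator S N) j := ⟨_, (decompose ℬ q j).2, rfl⟩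
        rw [biproj_of_mem 𝒜 ℬ (decompose 𝒜 p i).2 (decompose ℬ q j).2, Algebra.TensorProduct.map_tmul,
          biproj_of_mem (quotGrading 𝒜 _) (quotGrading ℬ _) hi' hj']
        split_ifs with h
        · rw [Algebra.TensorProduct.map_tmul]
        · rw [map_zero]
    show π (biproj 𝒜 ℬ _ _ _) = 0
    rw [hcomm, show π (Polynomial.eval₂ Φ.toRingHom (ψ v) p) = p.eval₂ (π.comp Φ).toRingHom (π (ψ v)) from
      Polynomial.hom_eval₂ p Φ.toRingHom π.toRingHom (ψ v), hpe, map_zero]
  rw [← DimLib.ringKrullDim_eq_of_isIntegral (R := model k r s) (S := T ⧸ Module.annihilator T P) hκinj,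
    ringKrullDim_model]

/-- **Dimension of Segre products of modules.** -/
theorem supportDim_segre (hposR : ∀ n : ℤ, n < 0 → 𝒜 n = ⊥) (h0R : 𝒜 0 = Submodule.span k {(1 : R)})
    [Algebra.FiniteType k R] (hposS : ∀ n : ℤ, n < 0 → ℬ n = ⊥) (h0S : ℬ 0 = Submodule.span k {(1 : S)})
    [Algebra.FiniteType k S]
    (hstdR : Ideal.span (⋃ n ∈ Set.Ioi (0 : ℤ), (𝒜 n : Set R)) = Ideal.span ((𝒜 1 : Submodule k R) : Set R))
    (hstdS : Ideal.span (⋃ n ∈ Set.Ioi (0 : ℤ), (ℬ n : Set S)) = Ideal.span ((ℬ 1 : Submodule k S) : Set S))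
    [Module.Finite R M] [Module.Finite S N]
    {T : Type u} [CommRing T] [Algebra k T] (𝒯 : ℤ → Submodule k T) [GradedAlgebra 𝒯]
    (ψ : T →ₐ[k] R ⊗[k] S) (hψ : Function.Injective ψ)
    (hdegT : ∀ n : ℤ, (𝒯 n).map ψ.toLinearMap = GrSeg.segrePiece k 𝒜 ℬ n)
    {P : Type u} [AddCommGroup P] [Module T P] [Module k P]
    {τQ : Type u} [SetLike τQ P] [AddSubgroupClass τQ P] (𝒬 : ℤ → τQ) [DirectSum.Decomposition 𝒬]
    (φ : P →ₗ[k] M ⊗[k] N) (hφ : Function.Injective φ)
    (hdegP : ∀ n : ℤ, φ '' (𝒬 n : Set P) = (GrSeg.segrePiece k ℳ 𝒩 n : Set (M ⊗[k] N)))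
    (hsmul : ∀ (t : T) (p : P), φ (t • p) = GrSeg.act k R S M N (ψ t) (φ p))
    (r s : ℕ) (hr : Module.supportDim R M = ((r + 1 : ℕ) : WithBot ℕ∞))
    (hs : Module.supportDim S N = ((s + 1 : ℕ) : WithBot ℕ∞)) :
    Module.supportDim T P = ((r + 1 + s : ℕ) : WithBot ℕ∞) := by
  classical
  refine supportDim_segre_of_faithful 𝒜 ℳ ℬ 𝒩 hposR h0R hposS h0S 𝒯 ψ hψ hdegT 𝒬 φ hφ hdegP hsmul r s hr hs
    fun D y z hD hy hz hyinj _ hzinj _ => ?_
  let Q := MvPolynomial (Fin (r + 1) ⊕ Fin (s + 1)) k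
  let Φ : Q →ₐ[k] R ⊗[k] S := aeval (Sum.elim (fun i => y i ⊗ₜ[k] (1 : S)) (fun j => (1 : R) ⊗ₜ[k] z j))
  let φR : MvPolynomial (Fin (r + 1)) k →ₐ[k] R := aeval y
  let φS : MvPolynomial (Fin (s + 1)) k →ₐ[k] S := aeval z
  obtain ⟨a, ha⟩ := exists_torsionFree 𝒜 ℳ hposR h0R (Nat.succ_pos r) hD y hy hyinj hstdR
  obtain ⟨b, hb⟩ := exists_torsionFree ℬ 𝒩 hposS h0S (Nat.succ_pos s) hD z hz hzinj hstdS
  obtain ⟨m, hm, hmt⟩ := ha (max a b) (le_max_left _ _)
  obtain ⟨n, hn, hnt⟩ := hb (max a b) (le_max_right _ _)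
  obtain ⟨p₀, -, hp₀⟩ := (hdegP (max a b)).symm.subset (Submodule.subset_span ⟨m, hm, n, hn, rfl⟩)
  let aY : MvPolynomial (Fin (r + 1)) k →ₗ[k] M :=
    { toFun := fun p => φR p • m
      map_add' := fun p q => by rw [map_add, add_smul]
      map_smul' := fun c p => by rw [map_smul, RingHom.id_apply, smul_assoc] }
  let aZ : MvPolynomial (Fin (s + 1)) k →ₗ[k] N :=
    { toFun := fun p => φS p • n
      map_add' := fun p q => by rw [map_add, add_smul]
      map_smul' := fun c p => by rw [map_smul, RingHom.id_apply, smul_assoc] }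
  have haY : Function.Injective aY := by
    rw [injective_iff_map_eq_zero]
    intro p hp
    by_contra hne
    exact hmt ⟨p, hne, hp⟩
  have haZ : Function.Injective aZ := by
    rw [injective_iff_map_eq_zero]
    intro p hp
    by_contra hne
    exact hnt ⟨p, hne, hp⟩
  have hmap : Function.Injective (TensorProduct.map aY aZ) := by
    rw [← LinearMap.rTensor_comp_lTensor, LinearMap.coe_comp]
    exact (Module.Flat.rTensor_preserves_injective_linearMap aY haY).comp
      (Module.Flat.lTensor_preserves_injective_linearMap aZ haZ)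
  let e : Q →ₐ[k] MvPolynomial (Fin (r + 1)) k ⊗[k] MvPolynomial (Fin (s + 1)) k :=
    aeval (Sum.elim (fun i => X i ⊗ₜ[k] 1) (fun j => 1 ⊗ₜ[k] X j))
  let e' : MvPolynomial (Fin (r + 1)) k ⊗[k] MvPolynomial (Fin (s + 1)) k →ₐ[k] Q :=
    Algebra.TensorProduct.lift (rename Sum.inl) (rename Sum.inr) fun _ _ => Commute.all _ _
  have hee : e'.comp e = AlgHom.id k Q := MvPolynomial.algHom_ext fun x => by
    rcases x with i | j <;> simp [e, e', Q, rename_X]
  have hΦ : Φ = (Algebra.TensorProduct.map φR φS).comp e := MvPolynomial.algHom_ext fun x => by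
    rcases x with i | j <;> simp [e, Φ, φR, φS]
  have hact : ∀ w, GrSeg.act k R S M N (Algebra.TensorProduct.map φR φS w) (m ⊗ₜ[k] n) =
      TensorProduct.map aY aZ w := by
    intro w
    induction w using TensorProduct.induction_on with
    | zero => simp
    | add p q hp hq => simp [hp, hq]
    | tmul p q =>
      rw [Algebra.TensorProduct.map_tmul, GrSeg.act_tmul, TensorProduct.map_tmul]; rfl
  refine ⟨p₀, fun u hu => ?_⟩
  have h2 : GrSeg.act k R S M N (Φ u) (φ p₀) = 0 := hu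
  rw [hp₀, hΦ, AlgHom.comp_apply, hact] at h2
  have h3 : e (u : Q) = 0 := hmap (by rw [h2, map_zero])
  have h4 := AlgHom.congr_fun hee (u : Q)
  rw [AlgHom.comp_apply, h3, map_zero] at h4
  exact h4.symm

end Groth.Agent.SegreDim
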