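import Groth.Agent.SegreDim.DimOneSegre
import Groth.Agent.LocCoh.GorensteinCriteria

/-!
# Gorenstein Segre products of one-dimensional algebras
-/

set_option autoImplicit false
universe u

open DirectSum TensorProduct

namespace Groth.Agent.SegreDim

variable {k : Type u} [Field k] {R : Type u} [CommRing R] [Algebra k R] (𝒜 : ℤ → Submodule k R)
  [GradedAlgebra 𝒜] (hposR : ∀ n : ℤ, n < 0 → 𝒜 n = ⊥) (h0R : 𝒜 0 = Submodule.span k {(1 : R)})
  (hstdR : Ideal.span (⋃ n ∈ Set.Ioi (0 : ℤ), (𝒜 n : Set R)) = Ideal.span ((𝒜 1 : Submodule k R) : Set R))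

include h0R hstdR in
theorem piece_add_le : ∀ (j : ℕ) (i : ℕ), 𝒜 ((i : ℤ) + j) ≤
    Submodule.span k {x : R | ∃ p ∈ 𝒜 (i : ℤ), ∃ q ∈ 𝒜 (j : ℤ), x = p * q} := by
  intro j
  induction j with
  | zero =>
    intro i a ha
    exact Submodule.subset_span ⟨a, by simpa using ha, 1, by simpa using SetLike.GradedOne.one_mem, (mul_one a).symm⟩
  | succ j ih =>
    intro i a ha
    refine Submodule.span_le.mpr ?_ (piece_succ_le 𝒜 hstdR (n := (i : ℤ) + j) (by omega)
      (by rwa [show (i : ℤ) + j + 1 = (i : ℤ) + ((j + 1 : ℕ) : ℤ) by push_cast; ring]))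
    rintro _ ⟨p, hp, q, hq, rfl⟩
    refine Submodule.span_induction (p := fun z _ => z * q ∈
      Submodule.span k {x : R | ∃ p ∈ 𝒜 (i : ℤ), ∃ q ∈ 𝒜 ((j + 1 : ℕ) : ℤ), x = p * q}) ?_
      (by simp) (fun _ _ _ _ h1 h2 => by rw [add_mul]; exact add_mem h1 h2)
      (fun c _ _ h1 => by rw [smul_mul_assoc]; exact Submodule.smul_mem _ c h1) (ih i hp)
    rintro _ ⟨u, hu, v, hv, rfl⟩
    refine Submodule.subset_span ⟨u, hu, v * q, ?_, mul_assoc u v q⟩
    have := SetLike.mul_mem_graded hv hq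
    simpa using this

include hposR h0R hstdR in
/-- all pieces of a non-polynomial algebra are at least two-dimensional -/
theorem exists_two [Nontrivial R] (hR : IsEmpty (R ≃ₐ[k] Polynomial k)) {D : ℕ} (hD : 0 < D) {y : R}
    (hy : y ∈ 𝒜 (D : ℤ)) (hreg : y ∈ nonZeroDivisors R) (n : ℕ) (hn : 0 < n) :
    ∃ p : Fin 2 → R, (∀ i, p i ∈ 𝒜 (n : ℤ)) ∧ LinearIndependent k p := by
  by_contra hc
  have hle : ∃ z ∈ 𝒜 (n : ℤ), 𝒜 (n : ℤ) ≤ Submodule.span k {z} := by
    by_cases h0 : ∃ z ∈ 𝒜 (n : ℤ), z ≠ 0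
    · obtain ⟨z, hz, hz0⟩ := h0
      refine ⟨z, hz, fun a ha => ?_⟩
      by_contra hna
      exact hc ⟨![z, a], fun i => by fin_cases i <;> simp [hz, ha],
        (LinearIndependent.pair_iff' hz0).mpr fun c hca => hna (Submodule.mem_span_singleton.mpr ⟨c, hca⟩)⟩
    · simp only [not_exists, not_and, not_not] at h0
      exact ⟨0, zero_mem _, fun a ha => by rw [h0 a ha]; exact zero_mem _⟩
  obtain ⟨z, hz, hle⟩ := hle
  have hzpow : ∀ j : ℕ, 𝒜 (((j + 1) * n : ℕ) : ℤ) ≤ Submodule.span k {z ^ (j + 1)} := by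
    intro j
    induction j with
    | zero => simpa using hle
    | succ j ih =>
      intro a ha
      refine Submodule.span_le.mpr ?_ (piece_add_le 𝒜 h0R hstdR n ((j + 1) * n)
        (by rw [show ((((j + 1) * n : ℕ) : ℤ) + (n : ℤ)) = (((j + 1 + 1) * n : ℕ) : ℤ) by push_cast; ring]; exact ha))
      rintro _ ⟨p, hp, q, hq, rfl⟩
      obtain ⟨c, rfl⟩ := Submodule.mem_span_singleton.mp (ih hp)
      obtain ⟨d, rfl⟩ := Submodule.mem_span_singleton.mp (hle hq)
      exact Submodule.mem_span_singleton.mpr ⟨c * d, by rw [smul_mul_smul_comm, ← pow_succ]⟩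
  obtain ⟨D', rfl⟩ : ∃ D', D = D' + 1 := ⟨D - 1, by omega⟩
  have hyn : y ^ n ∈ 𝒜 (((D' + 1) * n : ℕ) : ℤ) := by
    have := SetLike.pow_mem_graded (A := 𝒜) n hy
    rw [nsmul_eq_mul, mul_comm] at this
    simpa using this
  obtain ⟨c, hc'⟩ := Submodule.mem_span_singleton.mp (hzpow D' hyn)
  have hzreg : z ∈ nonZeroDivisors R := by
    have h := pow_mem hreg n
    rw [← hc', Algebra.smul_def] at h
    have h2 := (mul_mem_nonZeroDivisors.mp h).2
    rw [pow_succ] at h2
    exact (mul_mem_nonZeroDivisors.mp h2).2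
  rcases polynomial_or_exists_notMem 𝒜 hposR h0R hstdR hn hz hzreg with ⟨a, ha, hna⟩ | ⟨e⟩
  · exact hna (hle ha)
  · exact hR.false e.some

variable {S : Type u} [CommRing S] [Algebra k S] (ℬ : ℤ → Submodule k S)
  [GradedAlgebra ℬ] (hposS : ∀ n : ℤ, n < 0 → ℬ n = ⊥) (h0S : ℬ 0 = Submodule.span k {(1 : S)})
  (hstdS : Ideal.span (⋃ n ∈ Set.Ioi (0 : ℤ), (ℬ n : Set S)) = Ideal.span ((ℬ 1 : Submodule k S) : Set S))
  {T : Type u} [CommRing T] [Algebra k T] (𝒯 : ℤ → Submodule k T) [GradedAlgebra 𝒯]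
  (ψ : T →ₐ[k] R ⊗[k] S) (hψ : Function.Injective ψ)
  (hdegT : ∀ n : ℤ, (𝒯 n).map ψ.toLinearMap =
    Submodule.span k {x : R ⊗[k] S | ∃ a ∈ 𝒜 n, ∃ b ∈ ℬ n, x = a ⊗ₜ[k] b})

include hposR h0R hstdR hposS h0S hstdS hψ hdegT in
theorem not_gorenstein_segre [Algebra.FiniteType k R] [Algebra.FiniteType k S] [LocCoh.IsCohenMacaulayRing R]
    [LocCoh.IsCohenMacaulayRing S] (hr : ringKrullDim R = 1) (hs : ringKrullDim S = 1)
    (hR : IsEmpty (R ≃ₐ[k] Polynomial k)) (hS : IsEmpty (S ≃ₐ[k] Polynomial k))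
    (hT : LocCoh.IsGorensteinRing T) : False := by
  classical
  haveI := hT
  haveI : IsNoetherianRing T := inferInstance
  haveI : Nontrivial R := by
    by_contra h
    rw [not_nontrivial_iff_subsingleton] at h
    rw [ringKrullDim_eq_bot_of_subsingleton] at hr
    simp at hr
  haveI : Nontrivial S := by
    by_contra h
    rw [not_nontrivial_iff_subsingleton] at h
    rw [ringKrullDim_eq_bot_of_subsingleton] at hs
    simp at hs
  obtain ⟨D₁, y₁, hD₁, hy₁, hy₁r⟩ := exists_regular_homogeneous 𝒜 hposR h0R hr.ge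
  obtain ⟨D₂, w₁, hD₂, hw₁, hw₁r⟩ := exists_regular_homogeneous ℬ hposS h0S hs.ge
  let D := D₁ * D₂
  have hD : 0 < D := Nat.mul_pos hD₁ hD₂
  let y := y₁ ^ D₂
  let w := w₁ ^ D₁
  have hy : y ∈ 𝒜 (D : ℤ) := by
    have := SetLike.pow_mem_graded (A := 𝒜) D₂ hy₁
    rw [nsmul_eq_mul, mul_comm] at this
    simpa [D] using this
  have hw : w ∈ ℬ (D : ℤ) := by
    have := SetLike.pow_mem_graded (A := ℬ) D₁ hw₁
    simpa [D, nsmul_eq_mul] using this
  have hyr : y ∈ nonZeroDivisors R := pow_mem hy₁r D₂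
  have hwr : w ∈ nonZeroDivisors S := pow_mem hw₁r D₁
  obtain ⟨hposT, h0T⟩ := segre_pos_and_zero 𝒜 hposR h0R ℬ hposS h0S 𝒯 ψ hψ hdegT
  have lift : ∀ {n : ℤ} {p : R} {q : S}, p ∈ 𝒜 n → q ∈ ℬ n → ∃ t ∈ 𝒯 n, ψ t = p ⊗ₜ[k] q := by
    intro n p q hp hq
    have : p ⊗ₜ[k] q ∈ (𝒯 n).map ψ.toLinearMap := by
      rw [hdegT]; exact Submodule.subset_span ⟨p, hp, q, hq, rfl⟩
    exact this
  obtain ⟨t₁, ht₁, ht₁ψ⟩ := lift hy hw
  have hreg : t₁ ∈ nonZeroDivisors T := by
    refine mem_nonZeroDivisors_iff_right.mpr fun z hz => hψ ?_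
    rw [map_zero]
    have h := congrArg ψ hz
    rw [map_mul, map_zero, ht₁ψ] at h
    have hinj : Function.Injective (TensorProduct.map (LinearMap.mulRight k y) (LinearMap.mulRight k w)) := by
      rw [← LinearMap.rTensor_comp_lTensor, LinearMap.coe_comp]
      exact (Module.Flat.rTensor_preserves_injective_linearMap _
        (fun u v huv => (mul_cancel_right_mem_nonZeroDivisors hyr).mp huv)).comp
        (Module.Flat.lTensor_preserves_injective_linearMap _
          (fun u v huv => (mul_cancel_right_mem_nonZeroDivisors hwr).mp huv))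
    apply hinj
    rw [map_zero, ← h]
    generalize ψ z = v
    induction v using TensorProduct.induction_on with
    | zero => simp
    | add p q hp hq => rw [map_add, add_mul, hp, hq]
    | tmul p q => rw [TensorProduct.map_tmul, Algebra.TensorProduct.tmul_mul_tmul]; rfl
  -- the last unstable degree
  obtain ⟨nR, hnR⟩ := exists_divisible 𝒜 hposR h0R hr hD hy hyr
  obtain ⟨nS, hnS⟩ := exists_divisible ℬ hposS h0S hs hD hw hwr
  let bad : ℕ → Prop := fun n => (∃ a ∈ 𝒜 (n : ℤ), ∀ b ∈ 𝒜 ((n : ℤ) - D), a ≠ y * b) ∨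
    (∃ a ∈ ℬ (n : ℤ), ∀ b ∈ ℬ ((n : ℤ) - D), a ≠ w * b)
  have hbD : bad D := by
    rcases polynomial_or_exists_notMem 𝒜 hposR h0R hstdR hD hy hyr with ⟨a, ha, hna⟩ | ⟨e⟩
    · refine Or.inl ⟨a, ha, fun b hb hab => hna ?_⟩
      rw [sub_self] at hb
      obtain ⟨c, rfl⟩ := exists_scalar 𝒜 h0R hb
      rw [hab, mul_comm, ← Algebra.smul_def]
      exact Submodule.smul_mem _ c (Submodule.mem_span_singleton_self y)
    · exact (hR.false e.some).elim
  have hbound : ∀ n, bad n → n < nR + nS := by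
    intro n hn
    by_contra hlt
    rcases hn with ⟨a, ha, h⟩ | ⟨a, ha, h⟩
    · obtain ⟨b, hb, hab⟩ := hnR n (by omega) a ha; exact h b hb hab
    · obtain ⟨b, hb, hab⟩ := hnS n (by omega) a ha; exact h b hb hab
  let σ := Nat.findGreatest bad (nR + nS)
  have hσbad : bad σ := Nat.findGreatest_spec (hbound D hbD).le hbD
  have hσD : D ≤ σ := Nat.le_findGreatest (hbound D hbD).le hbD
  have hgood : ∀ n : ℤ, (σ : ℤ) < n → (∀ a ∈ 𝒜 n, ∃ b ∈ 𝒜 (n - D), a = y * b) ∧
      (∀ a ∈ ℬ n, ∃ b ∈ ℬ (n - D), a = w * b) := by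
    intro n hn
    obtain ⟨m, rfl⟩ := Int.eq_ofNat_of_zero_le (show 0 ≤ n by omega)
    have hnb : ¬ bad m := fun hb => Nat.findGreatest_is_greatest (by omega : σ < m) (hbound m hb).le hb
    simp only [bad, not_or, not_exists, not_and, not_forall, ne_eq, not_not] at hnb
    exact ⟨fun a ha => by obtain ⟨b, hb, h⟩ := hnb.1 a ha; exact ⟨b, hb, h⟩,
      fun a ha => by obtain ⟨b, hb, h⟩ := hnb.2 a ha; exact ⟨b, hb, h⟩⟩
  let J := Ideal.span ({t₁} : Set T)
  have htop : ∀ n : ℤ, (σ : ℤ) < n → ∀ t ∈ 𝒯 n, t ∈ J := by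
    intro n hn t ht
    have h : ψ t ∈ (𝒯 n).map ψ.toLinearMap := ⟨t, ht, rfl⟩
    rw [hdegT] at h
    suffices ∃ t' : T, ψ t = (y ⊗ₜ[k] w) * ψ t' by
      obtain ⟨t', ht'⟩ := this
      exact Ideal.mem_span_singleton'.mpr ⟨t', hψ (by rw [mul_comm, map_mul, ht₁ψ, ht'])⟩
    refine Submodule.span_induction (p := fun z _ => ∃ t' : T, z = (y ⊗ₜ[k] w) * ψ t') ?_
      ⟨0, by simp⟩ (fun _ _ _ _ ⟨u, hu⟩ ⟨v, hv⟩ => ⟨u + v, by rw [map_add, mul_add, hu, hv]⟩)
      (fun c _ _ ⟨u, hu⟩ => ⟨c • u, by rw [map_smul, mul_smul_comm, hu]⟩) h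
    rintro _ ⟨a, ha, b, hb, rfl⟩
    obtain ⟨a', ha', rfl⟩ := (hgood n hn).1 a ha
    obtain ⟨b', hb', rfl⟩ := (hgood n hn).2 b hb
    obtain ⟨t', -, ht'⟩ := lift ha' hb'
    exact ⟨t', by rw [ht', Algebra.TensorProduct.tmul_mul_tmul]⟩
  -- two independent elements of top degree
  have hproj : ∀ t : T, t ∈ J → ψ (decompose 𝒯 t (σ : ℤ) : T) ∈ Submodule.span k
      {x : R ⊗[k] S | ∃ a ∈ 𝒜 ((σ : ℤ) - D), ∃ b ∈ ℬ ((σ : ℤ) - D), x = (y * a) ⊗ₜ[k] (w * b)} := by
    intro t ht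
    obtain ⟨u, rfl⟩ := Ideal.mem_span_singleton'.mp ht
    have h0 := DirectSum.coe_decompose_mul_add_of_right_mem 𝒯 (i := (σ : ℤ) - D) (a := u) ht₁
    rw [sub_add_cancel] at h0
    rw [h0, map_mul, ht₁ψ]
    have h : ψ (decompose 𝒯 u ((σ : ℤ) - D) : T) ∈ (𝒯 ((σ : ℤ) - D)).map ψ.toLinearMap :=
      ⟨_, (decompose 𝒯 u ((σ : ℤ) - D)).2, rfl⟩
    rw [hdegT] at h
    refine Submodule.span_induction (p := fun z _ => z * (y ⊗ₜ[k] w) ∈ Submodule.span k
      {x : R ⊗[k] S | ∃ a ∈ 𝒜 ((σ : ℤ) - D), ∃ b ∈ ℬ ((σ : ℤ) - D), x = (y * a) ⊗ₜ[k] (w * b)}) ?_ (by simp)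
      (fun _ _ _ _ h1 h2 => by rw [add_mul]; exact add_mem h1 h2)
      (fun c _ _ h1 => by rw [smul_mul_assoc]; exact Submodule.smul_mem _ c h1) h
    rintro _ ⟨a, ha, b, hb, rfl⟩
    exact Submodule.subset_span ⟨a, ha, b, hb, by rw [Algebra.TensorProduct.tmul_mul_tmul, mul_comm a, mul_comm b]⟩
  obtain ⟨u, hu, hind⟩ : ∃ u : Fin 2 → T, (∀ i, u i ∈ 𝒯 (σ : ℤ)) ∧
      ∀ c : Fin 2 → k, c 0 • u 0 + c 1 • u 1 ∈ J → c = 0 := by
    have key : ∀ (f : R ⊗[k] S →ₗ[k] R ⊗[k] S) (p : Fin 2 → T) (q : Fin 2 → R ⊗[k] S),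
        (∀ i, p i ∈ 𝒯 (σ : ℤ)) → (∀ i, f (ψ (p i)) = q i) → LinearIndependent k q →
        (∀ a ∈ 𝒜 ((σ : ℤ) - D), ∀ b ∈ ℬ ((σ : ℤ) - D), f ((y * a) ⊗ₜ[k] (w * b)) = 0) →
        ∀ c : Fin 2 → k, c 0 • p 0 + c 1 • p 1 ∈ J → c = 0 := by
      intro f p q hp hq hli hf c hc
      have h := hproj _ hc
      rw [DirectSum.decompose_of_mem_same 𝒯 (add_mem (Submodule.smul_mem _ _ (hp 0)) (Submodule.smul_mem _ _ (hp 1)))] at h
      have h2 : f (ψ (c 0 • p 0 + c 1 • p 1)) = 0 := by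
        refine Submodule.span_induction (p := fun z _ => f z = 0) ?_ (map_zero f)
          (fun _ _ _ _ h1 h2 => by rw [map_add, h1, h2, add_zero])
          (fun e _ _ h1 => by rw [map_smul, h1, smul_zero]) h
        rintro _ ⟨a, ha, b, hb, rfl⟩
        exact hf a ha b hb
      rw [map_add, map_smul, map_smul, map_add, map_smul, map_smul, hq, hq] at h2
      funext i
      exact Fintype.linearIndependent_iff.mp hli c (by rw [Fin.sum_univ_two]; exact h2) i
    rcases hσbad with ⟨a, ha, hab⟩ | ⟨a, ha, hab⟩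
    · obtain ⟨b, hb, hbi⟩ := exists_two ℬ hposS h0S hstdS hS hD hw hwr σ (by omega)
      choose u hu huψ using fun i => lift ha (hb i)
      obtain ⟨l, hl, hla⟩ := Submodule.exists_dual_map_eq_bot_of_notMem
        (p := (𝒜 ((σ : ℤ) - D)).map (LinearMap.mulLeft k y)) (x := a)
        (fun ⟨b, hb, h⟩ => hab b hb h.symm) inferInstance
      refine ⟨u, hu, key (TensorProduct.map (((l a)⁻¹ • l).smulRight (1 : R)) LinearMap.id) u
        (fun i => (1 : R) ⊗ₜ[k] b i) hu (fun i => ?_) ?_ ?_⟩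
      · rw [huψ, TensorProduct.map_tmul, LinearMap.smulRight_apply, LinearMap.smul_apply, smul_eq_mul,
          inv_mul_cancel₀ hl, one_smul, LinearMap.id_apply]
      · exact hbi.map' (TensorProduct.mk k R S (1 : R)) (LinearMap.ker_eq_bot.mpr fun p q hpq => by
          have hinj : Function.Injective (LinearMap.rTensor S (LinearMap.toSpanSingleton k R (1 : R))) :=
            Module.Flat.rTensor_preserves_injective_linearMap _ (smul_left_injective k one_ne_zero)
          have h := hinj (a₁ := (1 : k) ⊗ₜ[k] p) (a₂ := (1 : k) ⊗ₜ[k] q) (by simpa using hpq)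
          simpa using congrArg (TensorProduct.lid k S) h)
      · intro a' ha' b' _
        have : l (y * a') = 0 := by
          have hmem : y * a' ∈ (𝒜 ((σ : ℤ) - D)).map (LinearMap.mulLeft k y) := ⟨a', ha', rfl⟩
          have := Submodule.mem_map_of_mem (f := l) hmem
          rwa [hla, Submodule.mem_bot] at this
        rw [TensorProduct.map_tmul, LinearMap.smulRight_apply, LinearMap.smul_apply, this, smul_zero, zero_smul,
          zero_tmul]
    · obtain ⟨b, hb, hbi⟩ := exists_two 𝒜 hposR h0R hstdR hR hD hy hyr σ (by omega)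
      choose u hu huψ using fun i => lift (hb i) ha
      obtain ⟨l, hl, hla⟩ := Submodule.exists_dual_map_eq_bot_of_notMem
        (p := (ℬ ((σ : ℤ) - D)).map (LinearMap.mulLeft k w)) (x := a)
        (fun ⟨b, hb, h⟩ => hab b hb h.symm) inferInstance
      refine ⟨u, hu, key (TensorProduct.map LinearMap.id (((l a)⁻¹ • l).smulRight (1 : S))) u
        (fun i => b i ⊗ₜ[k] (1 : S)) hu (fun i => ?_) ?_ ?_⟩
      · rw [huψ, TensorProduct.map_tmul, LinearMap.smulRight_apply, LinearMap.smul_apply, smul_eq_mul,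
          inv_mul_cancel₀ hl, one_smul, LinearMap.id_apply]
      · exact hbi.map' ((TensorProduct.mk k R S).flip (1 : S)) (LinearMap.ker_eq_bot.mpr fun p q hpq => by
          have hinj : Function.Injective (LinearMap.lTensor R (LinearMap.toSpanSingleton k S (1 : S))) :=
            Module.Flat.lTensor_preserves_injective_linearMap _ (smul_left_injective k one_ne_zero)
          have h := hinj (a₁ := p ⊗ₜ[k] (1 : k)) (a₂ := q ⊗ₜ[k] (1 : k)) (by simpa using hpq)
          simpa using congrArg (TensorProduct.rid k R) h)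
      · intro a' _ b' hb'
        have : l (w * b') = 0 := by
          have hmem : w * b' ∈ (ℬ ((σ : ℤ) - D)).map (LinearMap.mulLeft k w) := ⟨b', hb', rfl⟩
          have := Submodule.mem_map_of_mem (f := l) hmem
          rwa [hla, Submodule.mem_bot] at this
        rw [TensorProduct.map_tmul, LinearMap.smulRight_apply, LinearMap.smul_apply, this, smul_zero, zero_smul,
          tmul_zero]
  haveI : Nontrivial T := ⟨u 0, 0, fun h => by
    have := congrFun (hind ![1, 0] (by simp [h])) 0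
    simp at this⟩
  haveI hm := irr_isMaximal 𝒯 hposT h0T
  let m := irr 𝒯
  -- top degree elements are socle elements
  have hsoc : ∀ i, ∀ x ∈ m, x * u i ∈ J := by
    intro i
    have hle : m ≤ Submodule.comap (LinearMap.toSpanSingleton T T (u i)) J := by
      rw [show m = Ideal.span (⋃ n ∈ Set.Ioi (0 : ℤ), (𝒯 n : Set T)) from rfl, Ideal.span_le]
      intro x hx
      simp only [Set.mem_iUnion, Set.mem_Ioi, SetLike.mem_coe] at hx
      obtain ⟨n, hn, hx⟩ := hx
      exact htop _ (by omega) _ (SetLike.mul_mem_graded hx (hu i))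
    exact fun x hx => hle hx
  -- localisation at the vertex
  let A := Localization.AtPrime m
  haveI : LocCoh.IsGorensteinLocalRing A := hT.isGorensteinLocalRing_localization m
  haveI : LocCoh.IsCohenMacaulayLocalRing A := LocCoh.isCohenMacaulayLocalRing_of_gorenstein (R := A)
  haveI : Algebra.FiniteType k T := finiteType_of_isNoetherianRing 𝒯 hposT h0T
  have hTdim := W4Gr15.ringKrullDim_eq_height_of_minimalPrimes_le (K := k) m fun q hq =>
    le_irr_of_isHomogeneous 𝒯 hposT h0T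
      (isHomogeneous_minimalPrime 𝒯 (Ideal.IsHomogeneous.bot 𝒯) hq) hq.1.1.ne_top
  rw [← IsLocalization.AtPrime.ringKrullDim_eq_height m A,
    ringKrullDim_segre 𝒜 hposR h0R ℬ hposS h0S 𝒯 ψ hψ hdegT 0 0 (by rw [hr]; rfl) (by rw [hs]; rfl)] at hTdim
  have hA1 : ringKrullDim A = ((1 : ℕ) : WithBot ℕ∞) := hTdim.symm
  have hsocle := (LocCoh.gorenstein_iff_socle hA1).mp inferInstance
  let t' := algebraMap T A t₁
  have ht'm : t' ∈ IsLocalRing.maximalIdeal A := by
    rw [← Localization.AtPrime.map_eq_maximalIdeal]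
    exact Ideal.mem_map_of_mem _ (mem_irr_of_mem 𝒯 (by exact_mod_cast hD) ht₁)
  have ht'reg : IsSMulRegular A t' := CommAlg6.isSMulRegular_localization_self m hreg
  have hrad : IsLocalRing.maximalIdeal A ≤ (Ideal.ofList [t']).radical := by
    rw [← Localization.AtPrime.map_eq_maximalIdeal, Ideal.map_le_iff_le_comap]
    refine Ideal.span_le.mpr ?_
    intro x hx
    simp only [Set.mem_iUnion, Set.mem_Ioi, SetLike.mem_coe] at hx
    obtain ⟨n, hn, hx⟩ := hx
    refine ⟨σ + 1, ?_⟩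
    rw [← map_pow, Ideal.ofList_singleton, show Ideal.span ({t'} : Set A) = J.map (algebraMap T A) by
      rw [Ideal.map_span, Set.image_singleton]]
    refine Ideal.mem_map_of_mem _ (htop _ ?_ _ (SetLike.pow_mem_graded (A := 𝒯) (σ + 1) hx))
    rw [nsmul_eq_mul]
    push_cast
    nlinarith
  obtain ⟨e, -, hesoc, hline⟩ := (LocCoh.nonempty_socle_iff (n := 1) (xs := [t']) rfl (by simpa using ht'm)
    ((RingTheory.Sequence.isWeaklyRegular_cons_iff _ _ _).mpr ⟨ht'reg, RingTheory.Sequence.IsWeaklyRegular.nil _ _⟩) hrad).mp hsocle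
  have hJ' : Ideal.ofList [t'] = J.map (algebraMap T A) := by
    rw [Ideal.ofList_singleton, Ideal.map_span, Set.image_singleton]
  have hin : ∀ i, algebraMap T A (u i) ∈ Ideal.ofList [t'] ⊔ Ideal.span {e} := by
    refine fun i => hline _ fun a ha => ?_
    rw [← Localization.AtPrime.map_eq_maximalIdeal] at ha
    rw [hJ']
    have hle : m.map (algebraMap T A) ≤ Submodule.comap (LinearMap.toSpanSingleton A A (algebraMap T A (u i)))
        (J.map (algebraMap T A)) := by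
      rw [Ideal.map_le_iff_le_comap]
      intro x hx
      show algebraMap T A x • algebraMap T A (u i) ∈ J.map (algebraMap T A)
      rw [smul_eq_mul, ← map_mul]
      exact Ideal.mem_map_of_mem _ (hsoc i x hx)
    exact hle ha
  -- combinations landing in J, with one coefficient outside the maximal ideal
  have hdeg0 : ∀ (c : Fin 2 → T), c 0 * u 0 + c 1 * u 1 ∈ J → ∀ i, c i ∈ m := by
    intro c hc
    choose f μ hμ hf using fun i => exists_eq_add 𝒯 hposT h0T (c i)
    have hmem : f 0 • u 0 + f 1 • u 1 ∈ J := by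
      have h : f 0 • u 0 + f 1 • u 1 = (c 0 * u 0 + c 1 * u 1) - (μ 0 * u 0 + μ 1 * u 1) := by
        rw [hf 0, hf 1, add_mul, add_mul, ← Algebra.smul_def, ← Algebra.smul_def]; ring
      rw [h]
      exact J.sub_mem hc (J.add_mem (hsoc 0 _ (hμ 0)) (hsoc 1 _ (hμ 1)))
    intro i
    have := congrFun (hind f hmem) i
    rw [hf i, this, Pi.zero_apply, map_zero, zero_add]
    exact hμ i
  have hexists : ∃ c : Fin 2 → A, c 0 * algebraMap T A (u 0) + c 1 * algebraMap T A (u 1) ∈ Ideal.ofList [t'] ∧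
      ∃ i, c i ∉ IsLocalRing.maximalIdeal A := by
    obtain ⟨j₀, hj₀, z₀, hz₀, h0⟩ := Submodule.mem_sup.mp (hin 0)
    obtain ⟨r₀, rfl⟩ := Ideal.mem_span_singleton'.mp hz₀
    obtain ⟨j₁, hj₁, z₁, hz₁, h1⟩ := Submodule.mem_sup.mp (hin 1)
    obtain ⟨r₁, rfl⟩ := Ideal.mem_span_singleton'.mp hz₁
    by_cases hr₀ : r₀ ∈ IsLocalRing.maximalIdeal A
    · by_cases hr₁ : r₁ ∈ IsLocalRing.maximalIdeal A
      · exfalso
        have hcontr : algebraMap T A (u 0) ∈ Ideal.ofList [t'] := by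
          rw [← h0]
          refine Ideal.add_mem _ hj₀ ?_
          have he : ∀ a ∈ IsLocalRing.maximalIdeal A, a * e ∈ Ideal.ofList [t'] := hesoc
          exact he r₀ hr₀
        rw [hJ', IsLocalization.algebraMap_mem_map_algebraMap_iff m.primeCompl] at hcontr
        obtain ⟨s, hs', hsu⟩ := hcontr
        exact hs' (hdeg0 ![s, 0] (by simpa using hsu) 0)
      · refine ⟨![r₁, -r₀], ?_, 0, by simpa using hr₁⟩
        have : r₁ * algebraMap T A (u 0) + (-r₀) * algebraMap T A (u 1) = r₁ * j₀ - r₀ * j₁ := by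
          rw [← h0, ← h1]; ring
        simp only [Matrix.cons_val_zero, Matrix.cons_val_one]
        rw [this]
        exact Ideal.sub_mem _ (Ideal.mul_mem_left _ _ hj₀) (Ideal.mul_mem_left _ _ hj₁)
    · refine ⟨![r₁, -r₀], ?_, 1, by simpa using hr₀⟩
      have : r₁ * algebraMap T A (u 0) + (-r₀) * algebraMap T A (u 1) = r₁ * j₀ - r₀ * j₁ := by
        rw [← h0, ← h1]; ring
      simp only [Matrix.cons_val_zero, Matrix.cons_val_one]
      rw [this]
      exact Ideal.sub_mem _ (Ideal.mul_mem_left _ _ hj₀) (Ideal.mul_mem_left _ _ hj₁)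
  obtain ⟨c, hc, i, hi⟩ := hexists
  obtain ⟨s, hs'⟩ := IsLocalization.exist_integer_multiples_of_finset m.primeCompl (Finset.univ.image c)
  choose g hg using fun j => hs' (c j) (Finset.mem_image_of_mem c (Finset.mem_univ j))
  have hg' : ∀ j, algebraMap T A (g j) = algebraMap T A s * c j := fun j => by
    rw [hg j, Algebra.smul_def]
  have hJmem : algebraMap T A (g 0 * u 0 + g 1 * u 1) ∈ J.map (algebraMap T A) := by
    rw [map_add, map_mul, map_mul, hg', hg', mul_assoc, mul_assoc, ← mul_add, ← hJ']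
    exact Ideal.mul_mem_left _ _ hc
  rw [IsLocalization.algebraMap_mem_map_algebraMap_iff m.primeCompl] at hJmem
  obtain ⟨s', hs'm, hs'g⟩ := hJmem
  rw [mul_add, ← mul_assoc, ← mul_assoc] at hs'g
  have h := hdeg0 ![s' * g 0, s' * g 1] (by simpa using hs'g) i
  have hgi : g i ∉ m := fun hgm => by
    have : algebraMap T A (g i) ∈ IsLocalRing.maximalIdeal A := by
      rw [← Localization.AtPrime.map_eq_maximalIdeal]; exact Ideal.mem_map_of_mem _ hgm
    rw [hg'] at this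
    exact hi (((IsLocalRing.maximalIdeal.isMaximal A).isPrime.mem_or_mem this).resolve_left
      (fun h => (IsLocalRing.notMem_maximalIdeal.mpr (IsLocalization.map_units A s)) h))
  fin_cases i <;> exact (hm.isPrime.mem_or_mem (by simpa using h)).elim hs'm hgi

end Groth.Agent.SegreDim
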