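import Groth.Agent.SegreDim.DimOne
import Groth.Agent.SegreDim.Diag

/-!
# Segre products with a one-dimensional factor
-/

set_option autoImplicit false
universe u

open DirectSum TensorProduct

namespace Groth.Agent.SegreDim

variable {k : Type u} [Field k] {R : Type u} [CommRing R] [Algebra k R] (𝒜 : ℤ → Submodule k R)
  [GradedAlgebra 𝒜] (hposR : ∀ n : ℤ, n < 0 → 𝒜 n = ⊥) (h0R : 𝒜 0 = Submodule.span k {(1 : R)})
  {S : Type u} [CommRing S] [Algebra k S] (ℬ : ℤ → Submodule k S)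
  [GradedAlgebra ℬ] (hposS : ∀ n : ℤ, n < 0 → ℬ n = ⊥) (h0S : ℬ 0 = Submodule.span k {(1 : S)})
  {T : Type u} [CommRing T] [Algebra k T] (𝒯 : ℤ → Submodule k T) [GradedAlgebra 𝒯]
  (ψ : T →ₐ[k] R ⊗[k] S) (hψ : Function.Injective ψ)
  (hdegT : ∀ n : ℤ, (𝒯 n).map ψ.toLinearMap =
    Submodule.span k {x : R ⊗[k] S | ∃ a ∈ 𝒜 n, ∃ b ∈ ℬ n, x = a ⊗ₜ[k] b})

include hposR h0R hposS h0S hψ hdegT in
theorem segre_pos_and_zero : (∀ n : ℤ, n < 0 → 𝒯 n = ⊥) ∧ 𝒯 0 = Submodule.span k {(1 : T)} := by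
  refine ⟨fun n hn => ?_, le_antisymm ?_ ((Submodule.span_singleton_le_iff_mem _ _).mpr SetLike.GradedOne.one_mem)⟩
  · rw [Submodule.eq_bot_iff]
    intro t ht
    have : ψ t ∈ (𝒯 n).map ψ.toLinearMap := ⟨t, ht, rfl⟩
    rw [hdegT] at this
    apply hψ
    rw [map_zero]
    refine Submodule.span_induction (p := fun z _ => z = 0) ?_ rfl (fun _ _ _ _ ha hb => by rw [ha, hb, add_zero])
      (fun c _ _ ha => by rw [ha, smul_zero]) this
    rintro _ ⟨a, ha, b, -, rfl⟩
    rw [eq_zero_of_neg 𝒜 hposR hn ha, zero_tmul]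
  · intro t ht
    have : ψ t ∈ (𝒯 0).map ψ.toLinearMap := ⟨t, ht, rfl⟩
    rw [hdegT] at this
    have h : ψ t ∈ Submodule.span k {(1 : R ⊗[k] S)} := by
      refine Submodule.span_le.mpr ?_ this
      rintro _ ⟨a, ha, b, hb, rfl⟩
      obtain ⟨c, rfl⟩ := exists_scalar 𝒜 h0R ha
      obtain ⟨d, rfl⟩ := exists_scalar ℬ h0S hb
      refine Submodule.mem_span_singleton.mpr ⟨c * d, ?_⟩
      rw [Algebra.algebraMap_eq_smul_one, Algebra.algebraMap_eq_smul_one, tmul_smul, smul_tmul', smul_smul,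
        mul_comm c d, Algebra.TensorProduct.one_def, smul_tmul']
    obtain ⟨c, hc⟩ := Submodule.mem_span_singleton.mp h
    exact Submodule.mem_span_singleton.mpr ⟨c, hψ (by rw [map_smul, map_one, hc])⟩

include hposR h0R hposS h0S hψ hdegT in
/-- the Segre product is not Cohen–Macaulay as soon as `R` has two-dimensional high pieces -/
theorem not_cohenMacaulay_segre [Algebra.FiniteType k R] [Algebra.FiniteType k S]
    (hr : ringKrullDim R = 1) (hs : 2 ≤ ringKrullDim S) {D : ℕ} (hD : 0 < D) {y : R} (hy : y ∈ 𝒜 (D : ℤ))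
    (hyr : y ∈ nonZeroDivisors R) {w : S} (hw : w ∈ ℬ (D : ℤ)) (hwr : w ∈ nonZeroDivisors S)
    {a : R} (ha : a ∈ 𝒜 (D : ℤ)) (hay : a ∉ Submodule.span k {y})
    (hT : LocCoh.IsCohenMacaulayRing T) : False := by
  classical
  haveI := hT
  haveI : IsNoetherianRing T := inferInstance
  haveI : IsNoetherianRing S := Algebra.FiniteType.isNoetherianRing k S
  haveI : Nontrivial S := by
    by_contra h
    rw [not_nontrivial_iff_subsingleton] at h
    rw [ringKrullDim_eq_bot_of_subsingleton] at hs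
    simp at hs
  have hw0 : w ≠ 0 := nonZeroDivisors.ne_zero hwr
  obtain ⟨hposT, h0T⟩ := segre_pos_and_zero 𝒜 hposR h0R ℬ hposS h0S 𝒯 ψ hψ hdegT
  have lift : ∀ {n : ℤ} {p : R} {q : S}, p ∈ 𝒜 n → q ∈ ℬ n → ∃ t ∈ 𝒯 n, ψ t = p ⊗ₜ[k] q := by
    intro n p q hp hq
    have : p ⊗ₜ[k] q ∈ (𝒯 n).map ψ.toLinearMap := by
      rw [hdegT]; exact Submodule.subset_span ⟨p, hp, q, hq, rfl⟩
    exact this
  obtain ⟨t₁, ht₁, ht₁ψ⟩ := lift hy hw
  obtain ⟨b, hb, hbψ⟩ := lift ha hw
  -- regularity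
  have hreg : t₁ ∈ nonZeroDivisors T := by
    refine mem_nonZeroDivisors_iff_right.mpr fun z hz => hψ ?_
    rw [map_zero]
    have h := congrArg ψ hz
    rw [map_mul, map_zero, ht₁ψ] at h
    have hinj : Function.Injective (TensorProduct.map (LinearMap.mulRight k y) (LinearMap.mulRight k w)) := by
      rw [← LinearMap.rTensor_comp_lTensor, LinearMap.coe_comp]
      exact (Module.Flat.rTensor_preserves_injective_linearMap _
        (fun u v huv => (mul_cancel_right_mem_nonZeroDivisors hyr).mp huv)).comp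
        (Module.Flat.lTensor_preserves_injective_linearMap _
          (fun u v huv => (mul_cancel_right_mem_nonZeroDivisors hwr).mp huv))
    apply hinj
    rw [map_zero, ← h]
    generalize ψ z = v
    induction v using TensorProduct.induction_on with
    | zero => simp
    | add p q hp hq => rw [map_add, add_mul, hp, hq]
    | tmul p q => rw [TensorProduct.map_tmul, Algebra.TensorProduct.tmul_mul_tmul]; rfl
  let J := Ideal.span ({t₁} : Set T)
  have hbJ : b ∉ J := by
    intro hbJ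
    obtain ⟨t, ht⟩ := Ideal.mem_span_singleton'.mp hbJ
    have h0 := DirectSum.coe_decompose_mul_add_of_right_mem 𝒯 (i := (0 : ℤ)) (a := t) ht₁
    rw [zero_add, ht, DirectSum.decompose_of_mem_same 𝒯 hb] at h0
    obtain ⟨c, hc⟩ := exists_scalar 𝒯 h0T (decompose 𝒯 t 0).2
    rw [hc, ← Algebra.smul_def] at h0
    have h1 := congrArg ψ h0
    rw [map_smul, hbψ, ht₁ψ, smul_tmul', ← sub_eq_zero, ← sub_tmul] at h1
    have hinj : Function.Injective (LinearMap.lTensor R (LinearMap.toSpanSingleton k S w)) :=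
      Module.Flat.lTensor_preserves_injective_linearMap _ (smul_left_injective k hw0)
    have h2 : (a - c • y) ⊗ₜ[k] (1 : k) = 0 := hinj (by
      rw [map_zero, LinearMap.lTensor_tmul, LinearMap.toSpanSingleton_apply, one_smul]; exact h1)
    have h3 := congrArg (TensorProduct.rid k R) h2
    rw [TensorProduct.rid_tmul, one_smul, map_zero, sub_eq_zero] at h3
    exact hay (h3 ▸ Submodule.smul_mem _ c (Submodule.mem_span_singleton_self y))
  -- high degrees multiply b into J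
  obtain ⟨n₀, hn₀⟩ := exists_divisible 𝒜 hposR h0R hr hD hy hyr
  have hhigh : ∀ n : ℤ, (n₀ : ℤ) ≤ n → ∀ t ∈ 𝒯 n, b * t ∈ J := by
    intro n hn t ht
    have h : ψ t ∈ (𝒯 n).map ψ.toLinearMap := ⟨t, ht, rfl⟩
    rw [hdegT] at h
    suffices ∃ t' : T, (a ⊗ₜ[k] w) * ψ t = (y ⊗ₜ[k] w) * ψ t' by
      obtain ⟨t', ht'⟩ := this
      exact Ideal.mem_span_singleton'.mpr ⟨t', hψ (by rw [mul_comm, map_mul, map_mul, ht₁ψ, hbψ, ht'])⟩
    refine Submodule.span_induction (p := fun z _ => ∃ t' : T, (a ⊗ₜ[k] w) * z = (y ⊗ₜ[k] w) * ψ t') ?_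
      ⟨0, by simp⟩ (fun _ _ _ _ ⟨u, hu⟩ ⟨v, hv⟩ => ⟨u + v, by rw [mul_add, hu, hv, map_add, mul_add]⟩)
      (fun c _ _ ⟨u, hu⟩ => ⟨c • u, by rw [mul_smul_comm, hu, map_smul, mul_smul_comm]⟩) h
    rintro _ ⟨r, hr', s, hs', rfl⟩
    obtain ⟨r', hr'', he⟩ := hn₀ ((D : ℤ) + n) (by omega) (a * r) (SetLike.mul_mem_graded ha hr')
    rw [add_sub_cancel_left] at hr''
    obtain ⟨t', -, ht'⟩ := lift hr'' hs'
    exact ⟨t', by rw [ht', Algebra.TensorProduct.tmul_mul_tmul, Algebra.TensorProduct.tmul_mul_tmul, he]⟩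
  -- so a power of every element of the vertex ideal multiplies b into J
  let Q : Ideal T := J.colon {b}
  have hQ : ∀ x, x ∈ Q ↔ x * b ∈ J := fun x => Submodule.mem_colon_singleton
  haveI : Nontrivial T := ⟨b, 0, fun h => hbJ (h ▸ zero_mem _)⟩
  haveI hm := irr_isMaximal 𝒯 hposT h0T
  let m := irr 𝒯
  have hrad : m ≤ Q.radical := by
    rw [show m = Ideal.span (⋃ n ∈ Set.Ioi (0 : ℤ), (𝒯 n : Set T)) from rfl, Ideal.span_le]
    intro x hx
    simp only [Set.mem_iUnion, Set.mem_Ioi, SetLike.mem_coe] at hx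
    obtain ⟨n, hn, hx⟩ := hx
    refine ⟨n₀, (hQ _).mpr ?_⟩
    rw [mul_comm]
    refine hhigh _ ?_ _ (SetLike.pow_mem_graded (A := 𝒯) n₀ hx)
    rw [nsmul_eq_mul]
    nlinarith
  -- localisation at the vertex
  let A := Localization.AtPrime m
  haveI : LocCoh.IsCohenMacaulayLocalRing A := hT.isCohenMacaulayLocalRing_localization m
  let t' := algebraMap T A t₁
  have ht'm : t' ∈ IsLocalRing.maximalIdeal A := by
    rw [← Localization.AtPrime.map_eq_maximalIdeal]
    exact Ideal.mem_map_of_mem _ (mem_irr_of_mem 𝒯 (by exact_mod_cast hD) ht₁)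
  have ht'reg : IsSMulRegular A t' := CommAlg6.isSMulRegular_localization_self m hreg
  let A' := A ⧸ Ideal.span ({t'} : Set A)
  haveI : Nontrivial A' := Ideal.Quotient.nontrivial_iff.mpr fun h => (IsLocalRing.maximalIdeal.isMaximal A).ne_top
    (top_le_iff.mp (h ▸ (Ideal.span_singleton_le_iff_mem _).mpr ht'm))
  haveI : IsLocalRing A' := IsLocalRing.of_surjective' (Ideal.Quotient.mk _) Ideal.Quotient.mk_surjective
  haveI : LocCoh.IsCohenMacaulayLocalRing A' := (CAlgH3.isCohenMacaulayLocalRing_quotient_span_iff ht'm ht'reg).2 inferInstance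
  let b' : A' := Ideal.Quotient.mk _ (algebraMap T A b)
  have hb' : b' ≠ 0 := by
    intro h
    rw [Ideal.Quotient.eq_zero_iff_mem] at h
    have h' : algebraMap T A b ∈ J.map (algebraMap T A) := by
      rw [Ideal.map_span, Set.image_singleton]; exact h
    obtain ⟨⟨⟨j, hj⟩, ⟨s, hs'⟩⟩, hjs⟩ := (IsLocalization.mem_map_algebraMap_iff m.primeCompl A).mp h'
    rw [← map_mul] at hjs
    obtain ⟨⟨c, hc⟩, hceq⟩ := (IsLocalization.eq_iff_exists m.primeCompl A).mp hjs
    have hcs : c * s ∈ Q := (hQ _).mpr (by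
      rw [mul_assoc, mul_comm s b, show c * (b * s) = c * j from hceq]
      exact J.mul_mem_left c hj)
    have : Q ≤ m := le_trans Ideal.le_radical (le_of_eq (hm.eq_of_le (fun htop => hbJ (by
      have := (hQ 1).mp ((Ideal.eq_top_iff_one _).mp (Ideal.radical_eq_top.mp htop))
      rwa [one_mul] at this)) hrad).symm)
    exact (‹m.IsMaximal›.isPrime.mem_or_mem (this hcs)).elim hc hs'
  have hass : IsLocalRing.maximalIdeal A' ∈ associatedPrimes A' A' := by
    refine ⟨inferInstance, b', le_antisymm ?_ (IsLocalRing.le_maximalIdeal ?_)⟩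
    · intro x hx
      obtain ⟨x, rfl⟩ := Ideal.Quotient.mk_surjective x
      have hxA : x ∈ IsLocalRing.maximalIdeal A := by
        by_contra hxm
        exact hx ((IsUnit.map (Ideal.Quotient.mk _) (IsLocalRing.notMem_maximalIdeal.mp hxm)))
      rw [← Localization.AtPrime.map_eq_maximalIdeal] at hxA
      obtain ⟨⟨⟨u, hu⟩, s⟩, hus⟩ := (IsLocalization.mem_map_algebraMap_iff m.primeCompl A).mp hxA
      obtain ⟨N, hN⟩ := hrad hu
      refine ⟨N, ?_⟩
      rw [Submodule.mem_colon_singleton, Submodule.mem_bot, smul_eq_mul, ← map_pow, ← map_mul,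
        Ideal.Quotient.eq_zero_iff_mem]
      have h2 : algebraMap T A (u ^ N * b) ∈ Ideal.span ({t'} : Set A) := by
        have := Ideal.mem_map_of_mem (algebraMap T A) ((hQ _).mp hN)
        rwa [Ideal.map_span, Set.image_singleton] at this
      rw [map_mul, map_pow, ← hus, mul_pow, mul_right_comm] at h2
      exact (Ideal.mul_unit_mem_iff_mem _ ((IsLocalization.map_units A s).pow N)).mp h2
    · rw [Ne, Ideal.radical_eq_top, Ideal.eq_top_iff_one, Submodule.mem_colon_singleton, Submodule.mem_bot, one_smul]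
      exact hb'
  have hcm' : LocCoh.IsCohenMacaulayModule A' A' := (CAlgH3.isCohenMacaulayLocalRing_iff A').mp inferInstance
  have hdim' := CAlgH3.ringKrullDim_quotient_eq_of_mem_associatedPrimes hcm' hass
  letI := Ideal.Quotient.field (IsLocalRing.maximalIdeal A')
  rw [ringKrullDim_eq_zero_of_field, Module.supportDim_self_eq_ringKrullDim] at hdim'
  have hdimA := ringKrullDim_quotient_span_singleton_succ_eq_ringKrullDim ht'reg ht'm
  rw [← hdim', zero_add] at hdimA
  -- dimension of T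
  haveI : Algebra.FiniteType k T := finiteType_of_isNoetherianRing 𝒯 hposT h0T
  have hTdim := W4Gr15.ringKrullDim_eq_height_of_minimalPrimes_le (K := k) m fun q hq =>
    le_irr_of_isHomogeneous 𝒯 hposT h0T
      (isHomogeneous_minimalPrime 𝒯 (Ideal.IsHomogeneous.bot 𝒯) hq) hq.1.1.ne_top
  rw [← IsLocalization.AtPrime.ringKrullDim_eq_height m A, ← hdimA] at hTdim
  obtain ⟨s, hs'⟩ : ∃ s : ℕ, ringKrullDim S = s := by
    haveI := irr_isMaximal ℬ hposS h0S
    have hfin : (irr ℬ).height ≠ ⊤ := (Ideal.height_lt_top (Ideal.IsPrime.ne_top inferInstance)).ne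
    obtain ⟨e, he⟩ := ENat.ne_top_iff_exists.mp hfin
    refine ⟨e, ?_⟩
    rw [W4Gr15.ringKrullDim_eq_height_of_minimalPrimes_le (K := k) (irr ℬ) fun q hq =>
      le_irr_of_isHomogeneous ℬ hposS h0S
        (isHomogeneous_minimalPrime ℬ (Ideal.IsHomogeneous.bot ℬ) hq) hq.1.1.ne_top, ← he]
    rfl
  rw [hs'] at hs
  have hs2 : 2 ≤ s := by exact_mod_cast hs
  obtain ⟨s, rfl⟩ : ∃ s', s = s' + 1 := ⟨s - 1, by omega⟩
  have := ringKrullDim_segre 𝒜 hposR h0R ℬ hposS h0S 𝒯 ψ hψ hdegT 0 s (by rw [hr]; rfl) hs'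
  rw [hTdim] at this
  have : (1 : ℕ) = 0 + 1 + s := by exact_mod_cast this
  omega

include hposR h0R hposS hψ hdegT in
theorem nonempty_ringEquiv_segre_polynomial [Nontrivial R]
    (hstd : Ideal.span (⋃ n ∈ Set.Ioi (0 : ℤ), (𝒜 n : Set R)) = Ideal.span ((𝒜 1 : Submodule k R) : Set R))
    (e : R ≃ₐ[k] Polynomial k) : Nonempty (T ≃+* S) := by
  classical
  haveI : IsDomain R := Function.Injective.isDomain e.toRingEquiv.toRingHom e.injective
  haveI : IsPrincipalIdealRing R := IsPrincipalIdealRing.of_surjective e.symm.toRingHom e.symm.surjective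
  -- a linear generator
  obtain ⟨g, hg⟩ := IsPrincipalIdealRing.principal (irr 𝒜)
  let x : R := (decompose 𝒜 g 1 : R)
  have hgirr : g ∈ irr 𝒜 := hg ▸ Submodule.mem_span_singleton_self g
  have h1 : 𝒜 1 ≤ Submodule.span k {x} := by
    intro z hz
    obtain ⟨r, hr⟩ := Submodule.mem_span_singleton.mp (hg ▸ mem_irr_of_mem 𝒜 one_pos hz : z ∈ R ∙ g)
    obtain ⟨c, μ, hμ, rfl⟩ := exists_eq_add 𝒜 hposR h0R r
    have hg0 := proj_zero_of_mem_irr 𝒜 hposR hgirr
    have hμg : (decompose 𝒜 (μ * g) 1 : R) = 0 := by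
      conv_lhs => rw [← DirectSum.sum_support_decompose 𝒜 μ, Finset.sum_mul, ← GradedRing.proj_apply, map_sum]
      refine Finset.sum_eq_zero fun i _ => ?_
      rw [GradedRing.proj_apply, show (1 : ℤ) = i + (1 - i) by omega,
        DirectSum.coe_decompose_mul_add_of_left_mem 𝒜 (decompose 𝒜 μ i).2]
      rcases lt_trichotomy i 0 with h | h | h
      · rw [eq_zero_of_neg 𝒜 hposR h (decompose 𝒜 μ i).2, zero_mul]
      · subst h; rw [proj_zero_of_mem_irr 𝒜 hposR hμ, zero_mul]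
      · rcases (show (1 : ℤ) ≤ i by omega).eq_or_lt with h' | h'
        · subst h'; rw [sub_self, hg0, mul_zero]
        · rw [eq_zero_of_neg 𝒜 hposR (by omega : (1 : ℤ) - i < 0) (decompose 𝒜 g (1 - i)).2, mul_zero]
    refine Submodule.mem_span_singleton.mpr ⟨c, ?_⟩
    rw [← DirectSum.decompose_of_mem_same 𝒜 hz, ← hr, smul_eq_mul, add_mul, decompose_add, DirectSum.add_apply,
      Submodule.coe_add, hμg, add_zero, ← Algebra.smul_def, decompose_smul, DirectSum.smul_apply,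
      Submodule.coe_smul]
  have hx0 : x ≠ 0 := by
    intro hx0
    have h1bot : 𝒜 1 = ⊥ := le_bot_iff.mp (h1.trans (by rw [hx0]; simp))
    have hirr : irr 𝒜 = ⊥ := by
      rw [irr, hstd, h1bot]; simp
    obtain ⟨c, μ, hμ, he⟩ := exists_eq_add 𝒜 hposR h0R (e.symm Polynomial.X)
    rw [hirr, Ideal.mem_bot] at hμ
    rw [hμ, add_zero] at he
    have h2 := congrArg e he
    rw [e.apply_symm_apply, AlgEquiv.commutes] at h2
    exact Polynomial.X_ne_C c h2
  have hx : x ∈ 𝒜 1 := (decompose 𝒜 g 1).2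
  have hreg : x ∈ nonZeroDivisors R := mem_nonZeroDivisors_of_ne_zero hx0
  have hpieces := pieces_eq_of_linear 𝒜 hposR h0R hstd hx h1
  obtain ⟨E⟩ := nonempty_equiv_polynomial 𝒜 hposR h0R hstd hx h1 hreg
  -- evaluation sending the linear generator to one
  have hev : ∃ π : R →ₐ[k] k, π x = 1 := by
    let f : Polynomial k →ₐ[k] R := Polynomial.aeval x
    have hf : Function.Bijective f := by
      refine ⟨fun p q hpq => ?_, fun a => ?_⟩
      · by_contra hne
        have h0 : f (p - q) = 0 := by rw [map_sub, hpq, sub_self]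
        refine sub_ne_zero.mpr hne (Polynomial.ext fun i => ?_)
        by_contra hc
        rw [Polynomial.coeff_zero] at hc
        have h := congrArg (GradedRing.proj 𝒜 (i : ℤ)) h0
        have hpw : ∀ j : ℕ, x ^ j ∈ 𝒜 (j : ℤ) := fun j => by
          have := SetLike.pow_mem_graded (A := 𝒜) j hx
          simpa [nsmul_eq_mul] using this
        simp only [f, Polynomial.aeval_eq_sum_range, map_sum, map_zero, GradedRing.proj_apply] at h
        rw [Finset.sum_eq_single i
          (fun j _ hji => DirectSum.decompose_of_mem_ne 𝒜 (Submodule.smul_mem _ _ (hpw j))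
            (Int.ofNat_inj.not.mpr hji))
          (fun hi => absurd (Polynomial.coeff_eq_zero_of_natDegree_lt (p := p - q) (n := i)
            (by rw [Finset.mem_range] at hi; omega)) hc),
          DirectSum.decompose_of_mem_same 𝒜 (Submodule.smul_mem _ _ (hpw i)), Algebra.smul_def,
          mul_right_mem_nonZeroDivisors_eq_zero_iff (pow_mem hreg i)] at h
        exact hc ((map_eq_zero _).mp h)
      · show a ∈ f.range
        rw [← DirectSum.sum_support_decompose 𝒜 a]
        refine Subalgebra.sum_mem _ fun n _ => ?_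
        rcases lt_or_ge n 0 with h | h
        · rw [eq_zero_of_neg 𝒜 hposR h (decompose 𝒜 a n).2]; exact zero_mem _
        · obtain ⟨m, rfl⟩ := Int.eq_ofNat_of_zero_le h
          obtain ⟨c, hc⟩ := Submodule.mem_span_singleton.mp (hpieces m (decompose 𝒜 a (m : ℤ)).2)
          rw [← hc]
          exact ⟨c • Polynomial.X ^ m, by simp [f]⟩
    refine ⟨(Polynomial.aeval (1 : k)).comp (AlgEquiv.ofBijective f hf).symm.toAlgHom, ?_⟩
    have : (AlgEquiv.ofBijective f hf).symm x = Polynomial.X :=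
      (AlgEquiv.ofBijective f hf).symm_apply_eq.mpr (by simp [f])
    simp [this]
  obtain ⟨π, hπ⟩ := hev
  let Φ : T →ₐ[k] S := ((Algebra.TensorProduct.lid k S).toAlgHom.comp
    (Algebra.TensorProduct.map π (AlgHom.id k S))).comp ψ
  have hΦ : ∀ (n : ℕ) (t : T), t ∈ 𝒯 (n : ℤ) → ψ t = (x ^ n) ⊗ₜ[k] Φ t ∧ Φ t ∈ ℬ (n : ℤ) := by
    intro n t ht
    have h : ψ t ∈ (𝒯 (n : ℤ)).map ψ.toLinearMap := ⟨t, ht, rfl⟩
    rw [hdegT] at h
    show ψ t = (x ^ n) ⊗ₜ[k] ((Algebra.TensorProduct.lid k S) (Algebra.TensorProduct.map π (AlgHom.id k S) (ψ t))) ∧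
      (Algebra.TensorProduct.lid k S) (Algebra.TensorProduct.map π (AlgHom.id k S) (ψ t)) ∈ ℬ (n : ℤ)
    refine Submodule.span_induction (p := fun z _ =>
      z = (x ^ n) ⊗ₜ[k] ((Algebra.TensorProduct.lid k S) (Algebra.TensorProduct.map π (AlgHom.id k S) z)) ∧
      (Algebra.TensorProduct.lid k S) (Algebra.TensorProduct.map π (AlgHom.id k S) z) ∈ ℬ (n : ℤ)) ?_ ?_ ?_ ?_ h
    · rintro _ ⟨a, ha, b, hb, rfl⟩
      obtain ⟨c, rfl⟩ := Submodule.mem_span_singleton.mp (hpieces n ha)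
      rw [Algebra.TensorProduct.map_tmul, Algebra.TensorProduct.lid_tmul, map_smul, map_pow, hπ, one_pow,
        AlgHom.id_apply, smul_eq_mul, mul_one, smul_tmul]
      exact ⟨rfl, Submodule.smul_mem _ c hb⟩
    · simp
    · rintro u v - - ⟨hu, hu'⟩ ⟨hv, hv'⟩
      rw [map_add, map_add, tmul_add, ← hu, ← hv]
      exact ⟨rfl, add_mem hu' hv'⟩
    · rintro c u - ⟨hu, hu'⟩
      rw [map_smul, map_smul, tmul_smul, ← hu]
      exact ⟨rfl, Submodule.smul_mem _ c hu'⟩
  have hposT : ∀ {n : ℤ} {t : T}, n < 0 → t ∈ 𝒯 n → t = 0 := by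
    intro n t hn ht
    have h : ψ t ∈ (𝒯 n).map ψ.toLinearMap := ⟨t, ht, rfl⟩
    rw [hdegT] at h
    apply hψ
    rw [map_zero]
    refine Submodule.span_induction (p := fun z _ => z = 0) ?_ rfl (fun _ _ _ _ ha hb => by rw [ha, hb, add_zero])
      (fun c _ _ ha => by rw [ha, smul_zero]) h
    rintro _ ⟨a, ha, b, -, rfl⟩
    rw [eq_zero_of_neg 𝒜 hposR hn ha, zero_tmul]
  have hdec : ∀ (t : T) (n : ℤ), Φ (decompose 𝒯 t n : T) ∈ ℬ n := by
    intro t n
    rcases lt_or_ge n 0 with h | h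
    · rw [hposT h (decompose 𝒯 t n).2, map_zero]; exact zero_mem _
    · obtain ⟨m, rfl⟩ := Int.eq_ofNat_of_zero_le h
      exact (hΦ m _ (decompose 𝒯 t (m : ℤ)).2).2
  refine ⟨RingEquiv.ofBijective Φ.toRingHom ⟨?_, ?_⟩⟩
  · rw [injective_iff_map_eq_zero]
    intro t ht
    rw [← DirectSum.sum_support_decompose 𝒯 t]
    refine Finset.sum_eq_zero fun n _ => ?_
    have h : Φ (decompose 𝒯 t n : T) = 0 := by
      have h := congrArg (GradedRing.proj ℬ n) (show Φ t = 0 from ht)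
      rw [map_zero, ← DirectSum.sum_support_decompose 𝒯 t, map_sum, map_sum] at h
      by_cases hn : n ∈ (decompose 𝒯 t).support
      · rw [Finset.sum_eq_single n (fun j _ hjn => by
          rw [GradedRing.proj_apply, DirectSum.decompose_of_mem_ne ℬ (hdec t j) hjn])
          (fun hc => absurd hn hc), GradedRing.proj_apply, DirectSum.decompose_of_mem_same ℬ (hdec t n)] at h
        exact h
      · rw [DFinsupp.notMem_support_iff] at hn; simp [hn]
    rcases lt_or_ge n 0 with hn | hn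
    · exact hposT hn (decompose 𝒯 t n).2
    · obtain ⟨m, rfl⟩ := Int.eq_ofNat_of_zero_le hn
      apply hψ
      rw [map_zero, (hΦ m _ (decompose 𝒯 t (m : ℤ)).2).1, h, tmul_zero]
  · intro s
    show s ∈ Φ.range
    rw [← DirectSum.sum_support_decompose ℬ s]
    refine Subalgebra.sum_mem _ fun n _ => ?_
    rcases lt_or_ge n 0 with h | h
    · rw [eq_zero_of_neg ℬ hposS h (decompose ℬ s n).2]; exact zero_mem _
    · obtain ⟨m, rfl⟩ := Int.eq_ofNat_of_zero_le h
      have hxm : x ^ m ∈ 𝒜 (m : ℤ) := by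
        have := SetLike.pow_mem_graded (A := 𝒜) m hx
        simpa [nsmul_eq_mul] using this
      have hmem : (x ^ m) ⊗ₜ[k] (decompose ℬ s (m : ℤ) : S) ∈ (𝒯 (m : ℤ)).map ψ.toLinearMap := by
        rw [hdegT]; exact Submodule.subset_span ⟨_, hxm, _, (decompose ℬ s (m : ℤ)).2, rfl⟩
      obtain ⟨t, -, ht⟩ := hmem
      refine ⟨t, ?_⟩
      show (Algebra.TensorProduct.lid k S) (Algebra.TensorProduct.map π (AlgHom.id k S) (ψ t)) = _
      rw [show ψ t = (x ^ m) ⊗ₜ[k] (decompose ℬ s (m : ℤ) : S) from ht, Algebra.TensorProduct.map_tmul,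
        Algebra.TensorProduct.lid_tmul, map_pow, hπ, one_pow, one_smul, AlgHom.id_apply]

end Groth.Agent.SegreDim
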